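import Groth.Agent.DefAffHull.Tangent
import Mathlib.RingTheory.Smooth.Basic
import Mathlib.RingTheory.Support
import Mathlib.RingTheory.Jacobson.Artinian
import Mathlib.RingTheory.Localization.Away.Basic
import Mathlib.Algebra.MvPolynomial.PDeriv

/-!
# `Hom(I/I², B₀)` modulo derivations is finite dimensional for isolated singularities
-/

set_option autoImplicit false
set_option linter.unusedSectionVars false
universe u

open TensorProduct Groth.Agent.CotLib MvPolynomial

namespace Groth.Agent.DefAffHull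

variable {k : Type u} [Field k] {B₀ : Type u} [CommRing B₀] [Algebra k B₀]
variable {n : ℕ}

/-- The derivation with prescribed values on the variables. -/
noncomputable def derOf (π : MvPolynomial (Fin n) k →ₐ[k] B₀) (v : Fin n → B₀) (r : MvPolynomial (Fin n) k) :
    B₀ :=
  ∑ i, π (pderiv i r) * v i

theorem isDer_derOf (π : MvPolynomial (Fin n) k →ₐ[k] B₀) (v : Fin n → B₀) :
    ExalPres.IsDer π B₀ (derOf π v) where
  add a b := by simp only [derOf, map_add, add_mul, Finset.sum_add_distrib]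
  mul a b := by
    simp only [derOf, smul_eq_mul, Finset.mul_sum, ← Finset.sum_add_distrib]
    refine Finset.sum_congr rfl fun i _ => ?_
    rw [pderiv_mul, map_add, map_mul, map_mul]
    ring
  const c := by simp [derOf]

section local_splitting

/-- A power as an element of the powers. -/
def pw {M : Type u} [CommMonoid M] (x : M) (m : ℕ) : Submonoid.powers x := ⟨x ^ m, m, rfl⟩

variable (π : MvPolynomial (Fin n) k →ₐ[k] B₀) (hπ : Function.Surjective π)

/-- The square-zero thickening `R/I²`. -/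
abbrev Thick : Type u := MvPolynomial (Fin n) k ⧸ (RingHom.ker π) ^ 2

/-- Where `B₀` is smooth, the conormal sequence splits. -/
theorem exists_split (g : B₀) [Algebra.FormallySmooth k (Localization.Away g)]
    (G : MvPolynomial (Fin n) k) (hG : π G = g) (hπ : Function.Surjective π) :
    ∃ (P : MvPolynomial (Fin n) k) (w : Fin n → RingHom.ker π) (N : ℕ), π P = g ^ N ∧
      ∀ x ∈ RingHom.ker π, ∃ m : ℕ,
        G ^ m * (P * x - ∑ i, pderiv i x * (w i).1) ∈ (RingHom.ker π) ^ 2 := by
  set I := RingHom.ker π with hI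
  let G' : Thick π := Ideal.Quotient.mk _ G
  let T := Localization.Away G'
  let S := Localization.Away g
  let π₂ : Thick π →ₐ[k] B₀ := Ideal.Quotient.liftₐ _ π fun a ha => Ideal.pow_le_self two_ne_zero ha
  have hπ₂ : ∀ r, π₂ (Ideal.Quotient.mk _ r) = π r := fun r => rfl
  let ρ : T →ₐ[k] S := IsLocalization.liftAlgHom (M := Submonoid.powers G')
    (f := (IsScalarTower.toAlgHom k B₀ S).comp π₂) (fun y => by
      obtain ⟨m, hm⟩ := y.2
      change IsUnit (algebraMap B₀ S (π₂ y.1))
      rw [← hm, map_pow, map_pow]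
      exact ((IsLocalization.Away.algebraMap_isUnit g).pow m :
        IsUnit ((algebraMap B₀ S g) ^ m)) |> fun h => by rwa [show π₂ G' = g from hG])
  have hρ : ∀ a, ρ (algebraMap (Thick π) T a) = algebraMap B₀ S (π₂ a) := fun a =>
    IsLocalization.lift_eq _ a
  have hρG : ∀ m : ℕ, ρ (algebraMap (Thick π) T (G' ^ m)) = algebraMap B₀ S (g ^ m) := fun m => by
    rw [hρ, map_pow]
    exact congrArg (fun b => algebraMap B₀ S (b ^ m)) hG
  have hρs : Function.Surjective ρ := by
    intro s
    obtain ⟨⟨b, _, m, rfl⟩, hs⟩ := IsLocalization.surj (Submonoid.powers g) s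
    obtain ⟨r, rfl⟩ := hπ b
    obtain ⟨u, hu⟩ := IsLocalization.map_units T (pw G' m)
    refine ⟨algebraMap (Thick π) T (Ideal.Quotient.mk _ r) * (u⁻¹ : Tˣ), ?_⟩
    have h1 : ρ (algebraMap (Thick π) T (Ideal.Quotient.mk _ r) * (u⁻¹ : Tˣ)) * ρ (u : T) =
        algebraMap B₀ S (π r) := by
      rw [← map_mul, Units.inv_mul_cancel_right, hρ, hπ₂]
    rw [hu] at h1
    have h2 : ρ (algebraMap (Thick π) T (G' ^ m)) = algebraMap B₀ S (g ^ m) := hρG m
    exact (IsLocalization.map_units S (pw g m)).mul_left_inj.1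
      ((h2 ▸ h1 : _ * algebraMap B₀ S (g ^ m) = _).trans hs.symm)
  have hker : ∀ z, ρ z = 0 → ∃ (a : I) (m : ℕ),
      z * algebraMap (Thick π) T (G' ^ m) = algebraMap (Thick π) T (Ideal.Quotient.mk _ a.1) := by
    intro z hz
    obtain ⟨⟨a, _, m, rfl⟩, hs⟩ := IsLocalization.surj (Submonoid.powers G') z
    obtain ⟨r, rfl⟩ := Ideal.Quotient.mk_surjective a
    have h1 := congrArg ρ hs
    rw [map_mul, hz, zero_mul, hρ, hπ₂, eq_comm,
      IsLocalization.map_eq_zero_iff (Submonoid.powers g)] at h1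
    obtain ⟨⟨_, l, rfl⟩, hl⟩ := h1
    refine ⟨⟨G ^ l * r, ?_⟩, m + l, ?_⟩
    · rw [hI, RingHom.mem_ker, map_mul, map_pow, hG]
      exact hl
    · rw [pow_add, map_mul, ← mul_assoc]
      refine (congrArg (· * _) hs).trans ?_
      rw [← map_mul]
      exact congrArg _ ((mul_comm _ _).trans (by simp only [G', map_mul, map_pow]))
  have hsq : ∀ y z, ρ y = 0 → ρ z = 0 → y * z = 0 := by
    intro y z hy hz
    obtain ⟨a, m, ha⟩ := hker y hy
    obtain ⟨b, l, hb⟩ := hker z hz
    have h1 : y * z * algebraMap (Thick π) T (G' ^ m * G' ^ l) = 0 := by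
      rw [map_mul, mul_mul_mul_comm, ha, hb, ← map_mul, ← map_mul,
        Ideal.Quotient.eq_zero_iff_mem.2 (by rw [pow_two]; exact Ideal.mul_mem_mul a.2 b.2), map_zero]
    refine (IsUnit.mul_left_eq_zero ?_).1 h1
    exact IsLocalization.map_units T (⟨G' ^ m * G' ^ l, m + l, pow_add _ _ _⟩ : Submonoid.powers G')
  have hnil : IsNilpotent (RingHom.ker (ρ : T →+* S)) := ⟨2, by
    refine (pow_two _).trans (le_bot_iff.1 (Ideal.mul_le.2 ?_))
    exact fun y hy z hz => Ideal.mem_bot.2 (hsq y z hy hz)⟩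
  let σ : S →ₐ[k] T := Algebra.FormallySmooth.liftOfSurjective (AlgHom.id k S) ρ hρs hnil
  have hσ : ∀ s, ρ (σ s) = s := fun s =>
    Algebra.FormallySmooth.liftOfSurjective_apply (AlgHom.id k S) ρ hρs hnil s
  let ι : MvPolynomial (Fin n) k →ₐ[k] T :=
    (IsScalarTower.toAlgHom k (Thick π) T).comp (Ideal.Quotient.mkₐ k _)
  let θ : MvPolynomial (Fin n) k →ₐ[k] T := σ.comp ((IsScalarTower.toAlgHom k B₀ S).comp π)
  let D := fun r => ι r - θ r
  have hDρ : ∀ r, ρ (D r) = 0 := fun r => by
    change ρ (ι r - θ r) = 0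
    rw [map_sub, sub_eq_zero]
    exact ((hρ _).trans (congrArg (algebraMap B₀ S) (hπ₂ r))).trans (hσ _).symm
  have hD : ∀ r, D r = ∑ i, ι (pderiv i r) * D (X i) := fun r => by
    induction r using MvPolynomial.induction_on with
    | C c =>
      rw [Finset.sum_eq_zero fun i _ => by rw [pderiv_C, map_zero, zero_mul]]
      change ι (algebraMap k _ c) - θ (algebraMap k _ c) = 0
      rw [AlgHom.commutes, AlgHom.commutes, sub_self]
    | add p q hp hq =>
      have h : D (p + q) = D p + D q := by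
        change ι (p + q) - θ (p + q) = (ι p - θ p) + (ι q - θ q)
        rw [map_add, map_add]
        abel
      rw [h, hp, hq, ← Finset.sum_add_distrib]
      exact Finset.sum_congr rfl fun i _ => by rw [map_add, map_add, add_mul]
    | mul_X p j hp =>
      have h : D (p * X j) = ι p * D (X j) + ι (X j) * D p := by
        have h0 := hsq _ _ (hDρ (X j)) (hDρ p)
        change ι (p * X j) - θ (p * X j) = ι p * (ι (X j) - θ (X j)) + ι (X j) * (ι p - θ p)
        change (ι (X j) - θ (X j)) * (ι p - θ p) = 0 at h0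
        rw [map_mul, map_mul]
        linear_combination -h0
      rw [h, hp, Finset.mul_sum]
      classical
      rw [Finset.sum_congr rfl fun i _ => show ι (pderiv i (p * X j)) * D (X i) =
          ι (X j) * (ι (pderiv i p) * D (X i)) + (if i = j then ι p * D (X i) else 0) by
        rw [pderiv_mul, map_add, add_mul, map_mul, map_mul, pderiv_X, Pi.single_apply]
        rcases eq_or_ne i j with rfl | hne
        · rw [if_pos rfl, if_pos rfl, map_one]
          ring
        · rw [if_neg hne.symm, if_neg hne, map_zero]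
          ring, Finset.sum_add_distrib, Finset.sum_ite_eq' Finset.univ j, if_pos (Finset.mem_univ j)]
      exact add_comm _ _
  choose w m hw using fun i => hker (D (X i)) (hDρ (X i))
  refine ⟨G ^ ∑ i, m i, fun i => ⟨G ^ (∑ j ∈ Finset.univ.erase i, m j) * (w i).1,
    Ideal.mul_mem_left _ _ (w i).2⟩, ∑ i, m i, by rw [map_pow, hG], fun x hx => ?_⟩
  have h1 : D x = ι x := by
    change ι x - θ x = ι x
    rw [show θ x = 0 by
      change σ (algebraMap B₀ S (π x)) = 0
      rw [show π x = 0 from hx, map_zero, map_zero], sub_zero]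
  have h2 : ι (G ^ (∑ i, m i) * x - ∑ i, pderiv i x * (G ^ (∑ j ∈ Finset.univ.erase i, m j) * (w i).1)) = 0 := by
    rw [map_sub, map_mul, ← h1, hD, Finset.mul_sum, map_sum, ← Finset.sum_sub_distrib]
    refine Finset.sum_eq_zero fun i _ => sub_eq_zero.2 ?_
    rw [← Finset.add_sum_erase Finset.univ m (Finset.mem_univ i), pow_add, map_mul, map_mul, map_mul]
    have h3 : D (X i) * ι (G ^ m i) = ι (w i).1 := hw i
    rw [← h3]
    ring
  obtain ⟨⟨_, l, rfl⟩, hl⟩ := (IsLocalization.map_eq_zero_iff (Submonoid.powers G') T _).1 h2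
  refine ⟨l, Ideal.Quotient.eq_zero_iff_mem.1 ?_⟩
  rw [map_mul, map_pow]
  exact hl

end local_splitting

section finite

variable [Algebra.FiniteType k B₀]

/-- The hypothesis: smooth away from finitely many closed points. -/
def IsolatedSing (k B₀ : Type u) [Field k] [CommRing B₀] [Algebra k B₀] : Prop :=
  ∃ Z : Set (PrimeSpectrum B₀), Z.Finite ∧ (∀ p ∈ Z, p.asIdeal.IsMaximal) ∧
    ∀ p ∉ Z, ∃ g : B₀, g ∉ p.asIdeal ∧ Algebra.FormallySmooth k (Localization.Away g)

theorem finite_of_support {Q : Type u} [AddCommGroup Q] [Module B₀ Q] [Module.Finite B₀ Q] [Module k Q]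
    [IsScalarTower k B₀ Q] {Z : Set (PrimeSpectrum B₀)} (hZ : ∀ p ∈ Z, p.asIdeal.IsMaximal)
    (h : Module.support B₀ Q ⊆ Z) : Module.Finite k Q := by
  set J := Module.annihilator B₀ Q
  haveI : IsNoetherianRing B₀ := Algebra.FiniteType.isNoetherianRing k B₀
  have hdim : Ring.KrullDimLE 0 (B₀ ⧸ J) := Ring.KrullDimLE.mk₀ fun P hP => by
    have hp : (⟨P.comap (Ideal.Quotient.mk J), inferInstance⟩ : PrimeSpectrum B₀) ∈ Module.support B₀ Q := by
      rw [Module.mem_support_iff_of_finite]
      intro a ha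
      change Ideal.Quotient.mk J a ∈ P
      rw [Ideal.Quotient.eq_zero_iff_mem.2 ha]
      exact P.zero_mem
    have hmax := hZ _ (h hp)
    exact (Ideal.map_comap_of_surjective _ Ideal.Quotient.mk_surjective P) ▸
      (Ideal.map_eq_top_or_isMaximal_of_surjective _ Ideal.Quotient.mk_surjective hmax).resolve_left
        fun ht => hP.ne_top (by rw [← Ideal.map_comap_of_surjective _ Ideal.Quotient.mk_surjective P, ht])
  haveI : Module.Finite k (B₀ ⧸ J) := (Module.finite_iff_krullDimLE_zero k (B₀ ⧸ J)).2 hdim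
  letI : Module (B₀ ⧸ J) Q := Module.IsTorsionBySet.module
    (show Module.IsTorsionBySet B₀ Q J from fun q a => Module.mem_annihilator.1 a.2 q)
  haveI : IsScalarTower B₀ (B₀ ⧸ J) Q := ⟨fun a b q => by
    obtain ⟨b, rfl⟩ := Ideal.Quotient.mk_surjective b
    change (Ideal.Quotient.mk J (a * b)) • q = a • (Ideal.Quotient.mk J b) • q
    exact mul_smul a b q⟩
  haveI : IsScalarTower k (B₀ ⧸ J) Q := ⟨fun a b q => by
    rw [← algebraMap_smul B₀ a b, smul_assoc, algebraMap_smul]⟩
  haveI : Module.Finite (B₀ ⧸ J) Q := Module.Finite.of_restrictScalars_finite B₀ _ _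
  exact Module.Finite.trans (B₀ ⧸ J) Q

theorem exists_span_mod_der (hB : IsolatedSing k B₀) (π : MvPolynomial (Fin n) k →ₐ[k] B₀)
    (hπ : Function.Surjective π) :
    ∃ (d : ℕ) (Φd : ExalPres.Phi π (B₀ ⊗[k] (Fin d → k))),
      ∀ ψ : ExalPres.Phi π B₀, ∃ (l : (Fin d → k) →ₗ[k] k) (D : MvPolynomial (Fin n) k → B₀),
        ExalPres.IsDer π B₀ D ∧ ∀ x, ψ x = lmap l (Φd x) + D x := by
  obtain ⟨Z, -, hZm, hZ⟩ := hB
  let R := MvPolynomial (Fin n) k
  letI : Algebra R B₀ := π.toRingHom.toAlgebra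
  haveI : IsScalarTower k R B₀ := IsScalarTower.of_algebraMap_eq fun c => (π.commutes c).symm
  let H := RingHom.ker π →ₗ[R] B₀
  have hsm : ∀ (r : R) (b : B₀), r • b = π r * b := fun r b => rfl
  haveI : IsNoetherianRing B₀ := Algebra.FiniteType.isNoetherianRing k B₀
  haveI : Module.Finite R (RingHom.ker π) :=
    Module.Finite.iff_fg.2 (IsNoetherian.noetherian _)
  obtain ⟨m, γ, hγ⟩ := Module.Finite.exists_fin (R := R) (M := RingHom.ker π)
  let ev : H →ₗ[B₀] (Fin m → B₀) :=
    { toFun := fun ψ i => ψ (γ i)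
      map_add' := fun _ _ => rfl
      map_smul' := fun _ _ => rfl }
  have hev : Function.Injective ev := fun ψ ψ' h => LinearMap.ext_on_range hγ fun i => congrFun h i
  haveI : Module.Finite B₀ H := Module.Finite.of_injective ev hev
  let δ : (Fin n → B₀) →ₗ[B₀] H :=
    { toFun := fun v =>
        { toFun := fun x => derOf π v x
          map_add' := fun x y => (isDer_derOf π v).add x y
          map_smul' := fun r x => by
            change derOf π v (r * x.1) = r • derOf π v x.1
            rw [(isDer_derOf π v).mul, show π x.1 = 0 from x.2, zero_smul, add_zero, hsm, smul_eq_mul] }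
      map_add' := fun v v' => LinearMap.ext fun x => by
        change derOf π (v + v') x = derOf π v x + derOf π v' x
        simp [derOf, mul_add, Finset.sum_add_distrib]
      map_smul' := fun b v => LinearMap.ext fun x => by
        change derOf π (b • v) x = b * derOf π v x
        simp [derOf, Finset.mul_sum, mul_left_comm] }
  let Q := H ⧸ LinearMap.range δ
  have hsupp : Module.support B₀ Q ⊆ Z := fun p hp => by
    by_contra hpZ
    obtain ⟨g, hg, _⟩ := hZ p hpZ
    obtain ⟨G, hG⟩ := hπ g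
    obtain ⟨P, w, N, hP, hw⟩ := exists_split π g G hG hπ
    revert hp
    rw [imp_false, Module.notMem_support_iff']
    intro q
    obtain ⟨ψ, rfl⟩ := Submodule.Quotient.mk_surjective _ q
    choose l hl using fun j => hw (γ j).1 (γ j).2
    let M := ∑ j, l j
    refine ⟨g ^ (M + N), fun h => hg (p.isPrime.mem_of_pow_mem _ h), ?_⟩
    rw [← Submodule.Quotient.mk_smul, Submodule.Quotient.mk_eq_zero]
    refine ⟨fun i => g ^ M * ψ (w i), LinearMap.ext_on_range hγ fun j => ?_⟩
    change derOf π (fun i => g ^ M * ψ (w i)) (γ j).1 = g ^ (M + N) * ψ (γ j)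
    have hsq : ∀ y : RingHom.ker π, y.1 ∈ (RingHom.ker π) ^ 2 → ψ y = 0 := by
      rintro ⟨y, hy⟩ (h2 : y ∈ RingHom.ker π ^ 2)
      rw [pow_two] at h2
      induction h2 using Submodule.mul_induction_on' with
      | mem_mul_mem a ha b hb =>
        rw [show (⟨a * b, hy⟩ : RingHom.ker π) = a • ⟨b, hb⟩ from rfl, map_smul, hsm,
          show π a = 0 from ha, zero_mul]
      | add a ha b hb ia ib =>
        have ha' : a ∈ RingHom.ker π := Ideal.mul_le_left ha
        have hb' : b ∈ RingHom.ker π := Ideal.mul_le_left hb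
        rw [show (⟨a + b, hy⟩ : RingHom.ker π) = ⟨a, ha'⟩ + ⟨b, hb'⟩ from rfl, map_add, ia, ib, add_zero]
    have hmem : P * (γ j).1 - ∑ i, pderiv i (γ j).1 * (w i).1 ∈ RingHom.ker π :=
      sub_mem (Ideal.mul_mem_left _ _ (γ j).2) (sum_mem fun i _ => Ideal.mul_mem_left _ _ (w i).2)
    have h3 : g ^ l j * ψ ⟨_, hmem⟩ = 0 := by
      rw [show g ^ l j = π (G ^ l j) by rw [map_pow, hG], ← hsm, ← map_smul]
      exact hsq _ (hl j)
    have h4 : (⟨_, hmem⟩ : RingHom.ker π) = P • γ j - ∑ i, pderiv i (γ j).1 • w i := by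
      refine Subtype.ext ?_
      simp
    rw [h4, map_sub, map_smul, map_sum, hsm, hP] at h3
    simp only [map_smul, hsm] at h3
    have h5 : g ^ M * (g ^ N * ψ (γ j) - ∑ i, π (pderiv i (γ j).1) * ψ (w i)) = 0 := by
      obtain ⟨c, hc⟩ := pow_dvd_pow g (Finset.single_le_sum (fun i _ => Nat.zero_le _) (Finset.mem_univ j) :
        l j ≤ M)
      rw [hc, mul_comm (g ^ l j), mul_assoc, h3, mul_zero]
    rw [mul_sub, sub_eq_zero, Finset.mul_sum] at h5
    rw [pow_add, mul_assoc, h5, derOf]
    exact Finset.sum_congr rfl fun i _ => by ring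
  haveI : Module.Finite k Q := finite_of_support hZm hsupp
  obtain ⟨d, c, hc⟩ := Module.Finite.exists_fin (R := k) (M := Q)
  choose φ hφ using fun i => Submodule.Quotient.mk_surjective _ (c i)
  refine ⟨d, ⟨fun x => ∑ j, φ j x ⊗ₜ Pi.single j 1, fun x y => ?_, fun r x => ?_⟩, fun ψ => ?_⟩
  · rw [← Finset.sum_add_distrib]
    exact Finset.sum_congr rfl fun j _ => by rw [map_add, add_tmul]
  · rw [Finset.smul_sum]
    exact Finset.sum_congr rfl fun j _ => by
      rw [map_smul, hsm, TensorProduct.smul_tmul', smul_eq_mul]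
  let ψ' : H :=
    { toFun := ψ
      map_add' := ψ.map_add'
      map_smul' := fun r x => ψ.map_smul' r x }
  obtain ⟨a, ha⟩ := (Submodule.mem_span_range_iff_exists_fun k).1
    (hc ▸ Submodule.mem_top : Submodule.Quotient.mk (p := LinearMap.range δ) ψ' ∈ Submodule.span k (Set.range c))
  obtain ⟨v, hv⟩ : ψ' - ∑ j, a j • φ j ∈ LinearMap.range δ := by
    rw [← Submodule.Quotient.eq, ← Submodule.mkQ_apply, ← Submodule.mkQ_apply, map_sum, Submodule.mkQ_apply,
      ← ha]
    refine Finset.sum_congr rfl fun j _ => ?_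
    rw [← hφ j]
    rfl
  refine ⟨∑ j, a j • LinearMap.proj j, derOf π v, isDer_derOf π v, fun x => ?_⟩
  have hx : derOf π v x.1 = ψ x - ∑ j, a j • φ j x := by
    refine (LinearMap.congr_fun hv x).trans ?_
    rw [LinearMap.sub_apply, LinearMap.sum_apply]
    rfl
  rw [map_sum, hx]
  simp [lmap_tmul, Pi.single_apply, Finset.sum_apply]

end finite

end Groth.Agent.DefAffHull
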