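import Groth.Agent.ArtFunLib.Smooth
import Groth.Agent.ArtFunLib.Tangent
import Groth.Agent.PP16Lib.CompletionEquiv
import Groth.Agent.CohenStruct.PowerSeries
import Groth.Prelude.Def_ArtFun3
import Mathlib.RingTheory.Ideal.KrullsHeightTheorem
import Mathlib.RingTheory.Filtration
import Mathlib.RingTheory.KrullDimension.NonZeroDivisors

/-!
# Dimension of a hull from tangent and obstruction spaces
-/

set_option autoImplicit false
set_option linter.unusedSectionVars false
universe u v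

open CategoryTheory ArtFun ArtFun.Art ArtFun.CRing IsLocalRing
open Groth.Agent.ArtFunLib

namespace Groth.Agent.DefAffHull

variable {k : Type u} [Field k]

/-- `k` as a coefficient ring. -/
noncomputable def kRing (k : Type u) [Field k] : CRing k k where
  carrier := k
  res := AlgHom.id k k
  res_surjective := Function.surjective_id
  isAdicComplete := by
    rw [IsLocalRing.maximalIdeal_eq_bot]
    infer_instance

section PS

variable {d : ℕ} (Q : PSRing (kRing k) d)

theorem psX_mem (i : Fin d) : Q.X i ∈ maximalIdeal Q.ring.carrier :=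
  (CRing.mem_maximalIdeal_iff Q.ring _).mpr (by
    rw [Q.res_e, Q.e_X, MvPowerSeries.constantCoeff_X, map_zero])

theorem psC_eq (c : k) : Q.C c = algebraMap k Q.ring.carrier c := Q.C.commutes c

/-- The map to a square-zero object sending the variables to given vectors. -/
theorem exists_ps_hom {A : Art k k} (a : Fin d → A) (ha : ∀ i, A.res (a i) = 0) :
    ∃! ψ : HomSet Q.ring.carrier Q.ring.res A, ∀ i, ψ.1 (Q.X i) = a i := by
  let φ : HomSet (kRing k).carrier (kRing k).res A :=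
    ⟨Algebra.ofId k A, AlgHom.ext fun c => A.res.commutes c⟩
  obtain ⟨ψ, ⟨-, h2⟩, hu⟩ := Q.univ A φ a ha
  refine ⟨ψ, h2, fun ψ' h' => hu ψ' ⟨AlgHom.ext fun c => ?_, h'⟩⟩
  exact (congrArg ψ'.1 (psC_eq Q c)).trans (ψ'.1.commutes c)

theorem ps_dim : ringKrullDim Q.ring.carrier = (d : ℕ∞) ∧ IsDomain Q.ring.carrier := by
  haveI : IsDomain (MvPowerSeries (Fin d) k) := NoZeroDivisors.to_isDomain _
  have e : Q.ring.carrier ≃+* MvPowerSeries (Fin d) k := Q.e.toRingEquiv
  haveI := PP16Lib.isRegularLocalRing_mvPowerSeries d k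
  haveI : IsRegularLocalRing Q.ring.carrier := IsRegularLocalRing.of_ringEquiv e.symm
  refine ⟨le_antisymm ?_ ?_, e.toMulEquiv.isDomain (MvPowerSeries (Fin d) k)⟩
  · rw [ringKrullDim_eq_of_ringEquiv e]
    have h := CohenStruct.ringKrullDim_mvPowerSeries_le (Λ := k) d ∅
      (by rw [Finset.coe_empty, Ideal.span_empty, IsLocalRing.maximalIdeal_eq_bot])
    rw [Finset.card_empty, add_zero] at h
    exact_mod_cast h
  · rw [← IsRegularLocalRing.spanFinrank_maximalIdeal (R := Q.ring.carrier)]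
    obtain ⟨c, hc, -⟩ := exists_ps_hom Q (A := dualN k k d)
      (fun i => (TrivSqZeroExt.inr (Pi.single i (1 : k)) : TrivSqZeroExt k (Fin d → k))) fun i => rfl
    obtain ⟨s, hs, hspan⟩ := Submodule.FG.exists_span_finset_card_eq_spanFinrank
      (IsNoetherian.noetherian (maximalIdeal Q.ring.carrier))
    have hres0 : ∀ a ∈ maximalIdeal Q.ring.carrier, TrivSqZeroExt.fst (R := k) (c.1 a) = 0 := fun a ha =>
      (homSet_res c a).trans ((CRing.mem_maximalIdeal_iff Q.ring a).mp ha)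
    classical
    let S := Submodule.span k ((fun g => sndN (c.1 g)) '' (s : Set Q.ring.carrier))
    have hle : ∀ a ∈ maximalIdeal Q.ring.carrier, sndN (c.1 a) ∈ S := by
      intro a ha
      rw [← hspan] at ha
      induction ha using Submodule.span_induction with
      | mem x hx => exact Submodule.subset_span ⟨x, hx, rfl⟩
      | zero =>
        rw [map_zero]
        exact S.zero_mem
      | add x y _ _ hx hy =>
        rw [map_add]
        exact S.add_mem hx hy
      | smul r x hx hx' =>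
        have hx0 : x ∈ maximalIdeal Q.ring.carrier := hspan ▸ hx
        have h1 : sndN (c.1 (r • x)) = TrivSqZeroExt.fst (R := k) (c.1 r) • sndN (c.1 x) := by
          rw [smul_eq_mul, map_mul]
          refine (TrivSqZeroExt.snd_mul (R := k) (M := Fin d → k) _ _).trans ?_
          rw [hres0 x hx0, op_smul_eq_smul, zero_smul, add_zero]
          rfl
        rw [h1]
        exact S.smul_mem _ hx'
    have htop : S = ⊤ := by
      rw [eq_top_iff, ← (Pi.basisFun k (Fin d)).span_eq, Submodule.span_le]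
      rintro _ ⟨i, rfl⟩
      have h := hle _ (psX_mem Q i)
      rw [hc i] at h
      simpa [Pi.basisFun_apply, sndN] using h
    have hd : d ≤ s.card := by
      have h1 : Module.finrank k S ≤ (s.image fun g => sndN (c.1 g)).card := by
        refine le_trans (le_of_eq ?_) (finrank_span_finset_le_card (R := k) (s.image fun g => sndN (c.1 g)))
        rw [Set.finrank, Finset.coe_image]
      rw [htop, finrank_top, Module.finrank_fin_fun] at h1
      exact h1.trans Finset.card_image_le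
    rw [← hs]
    exact_mod_cast hd

end PS

end Groth.Agent.DefAffHull

namespace Groth.Agent.DefAffHull

variable {k : Type u} [Field k]

/-- A coefficient ring over `k` is a quotient of a power series ring by second order relations. -/
theorem exists_presentation (R : CRing k k) :
    ∃ (d : ℕ) (Q : PSRing (kRing k) d) (Φ : Q.ring.carrier →ₐ[k] R.carrier) (c : HomSet R.carrier R.res (dualN k k d)),
      R.res.comp Φ = Q.ring.res ∧ Function.Surjective Φ ∧
      RingHom.ker Φ ≤ maximalIdeal Q.ring.carrier ^ 2 ∧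
      (∀ i, c.1 (Φ (Q.X i)) = (TrivSqZeroExt.inr (Pi.single i (1 : k)) : TrivSqZeroExt k (Fin d → k))) ∧
      ∀ χ : HomSet R.carrier R.res (dual k k), ∃ l, HomSet.map (tN l) c = χ := by
  obtain ⟨d, x, hx, hind⟩ := exists_minimal_gens
    (J := maximalIdeal R.carrier) (K := maximalIdeal R.carrier ^ 2) (Ideal.pow_le_self two_ne_zero)
  obtain ⟨Q⟩ := exists_psRing (kRing k) d
  have hxm : ∀ j, R.res (x j) = 0 := fun j =>
    (CRing.mem_maximalIdeal_iff R _).mp (hx.le (Ideal.mem_sup_left (Ideal.subset_span ⟨j, rfl⟩)))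
  obtain ⟨Φ, ⟨hΦ, -, hΦX⟩, -⟩ := Q.univC R (Algebra.ofId k R.carrier)
    (AlgHom.ext fun c => R.res.commutes c) x hxm
  have hloc : maximalIdeal Q.ring.carrier ≤ (maximalIdeal R.carrier).comap Φ := fun a ha => by
    rw [Ideal.mem_comap, CRing.mem_maximalIdeal_iff, ← AlgHom.comp_apply, hΦ]
    exact (CRing.mem_maximalIdeal_iff Q.ring a).mp ha
  have hΦs : Function.Surjective Φ := by
    refine surjective_of_cring_cotangent Φ hΦ ?_
    refine hx.ge.trans (sup_le_sup_right (Ideal.span_le.mpr ?_) _)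
    rintro _ ⟨j, rfl⟩
    rw [← hΦX j]
    exact Ideal.mem_map_of_mem Φ.toRingHom (psX_mem Q j)
  have hsq : RingHom.ker Φ ≤ maximalIdeal Q.ring.carrier ^ 2 := by
    intro z hz
    have hz0 : Φ z = 0 := hz
    have hzm : z ∈ maximalIdeal Q.ring.carrier := by
      rw [CRing.mem_maximalIdeal_iff, ← hΦ, AlgHom.comp_apply, hz0, map_zero]
    have h1 := psRing_maximal_le Q hzm
    have hbot : maximalIdeal (kRing k).carrier = ⊥ := by
      change maximalIdeal k = ⊥
      exact IsLocalRing.maximalIdeal_eq_bot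
    rw [hbot, Ideal.map_bot, sup_bot_eq] at h1
    obtain ⟨a, ha, b, hb, rfl⟩ := Submodule.mem_sup.mp h1
    obtain ⟨t, rfl⟩ := (Submodule.mem_span_range_iff_exists_fun _).mp ha
    refine add_mem (Ideal.sum_mem _ fun j _ => ?_) hb
    have hb' : Φ b ∈ maximalIdeal R.carrier ^ 2 := by
      refine Ideal.pow_right_mono ?_ 2 ((Ideal.map_pow Φ.toRingHom _ 2).le (Ideal.mem_map_of_mem Φ.toRingHom hb))
      exact Ideal.map_le_iff_le_comap.mpr hloc
    have h3 : ∑ i, Φ (t i) * x i ∈ maximalIdeal R.carrier ^ 2 := by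
      have h : Φ (∑ i, t i • Q.X i) = ∑ i, Φ (t i) * x i := by simp [map_sum, hΦX]
      rw [← h, eq_neg_of_add_eq_zero_left ((map_add Φ _ _).symm.trans hz0)]
      exact neg_mem hb'
    have htj : t j ∈ maximalIdeal Q.ring.carrier := by
      rw [CRing.mem_maximalIdeal_iff, ← hΦ, AlgHom.comp_apply]
      exact (CRing.mem_maximalIdeal_iff R _).mp (hind _ h3 j)
    rw [smul_eq_mul, sq]
    exact Ideal.mul_mem_mul htj (psX_mem Q j)
  obtain ⟨c₀, hc₀, -⟩ := exists_ps_hom Q (A := dualN k k d)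
    (fun i => (TrivSqZeroExt.inr (Pi.single i (1 : k)) : TrivSqZeroExt k (Fin d → k))) fun i => rfl
  have hm2 : ∀ a ∈ maximalIdeal Q.ring.carrier ^ 2, c₀.1 a = 0 := by
    intro a ha
    rw [sq] at ha
    refine Submodule.mul_induction_on ha (fun y hy z hz => ?_) fun y z hy hz => by rw [map_add, hy, hz, add_zero]
    have h : ∀ y ∈ maximalIdeal Q.ring.carrier, TrivSqZeroExt.fst (R := k) (c₀.1 y) = 0 := fun y hy =>
      (homSet_res c₀ y).trans ((CRing.mem_maximalIdeal_iff Q.ring y).mp hy)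
    rw [map_mul]
    refine TrivSqZeroExt.ext ?_ ?_
    · exact (congrArg (fun w => w * _) (h y hy)).trans (zero_mul _)
    · refine (TrivSqZeroExt.snd_mul (R := k) (M := Fin d → k) _ _).trans ?_
      rw [h y hy, h z hz, zero_smul, MulOpposite.op_zero, zero_smul, add_zero]
      rfl
  let c : R.carrier →ₐ[k] dualN k k d := AlgHom.liftOfSurjective Φ hΦs c₀.1 fun a ha => hm2 a (hsq ha)
  have hcΦ : ∀ a, c (Φ a) = c₀.1 a := fun a => AlgHom.liftOfSurjective_apply _ _ _ _ a
  let cR : HomSet R.carrier R.res (dualN k k d) := ⟨c, AlgHom.ext fun r => by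
    obtain ⟨a, rfl⟩ := hΦs r
    rw [AlgHom.comp_apply, hcΦ, homSet_res c₀, ← hΦ]
    rfl⟩
  refine ⟨d, Q, Φ, cR, hΦ, hΦs, hsq, fun i => (hcΦ _).trans (hc₀ i), fun χ => ?_⟩
  let l : (Fin d → k) →ₗ[k] k := (Pi.basisFun k (Fin d)).constr k fun i => sndD (χ.1 (x i))
  refine ⟨l, Subtype.ext (AlgHom.ext fun r => ?_)⟩
  obtain ⟨a, rfl⟩ := hΦs r
  let χ' : HomSet Q.ring.carrier Q.ring.res (dual k k) := ⟨χ.1.comp Φ, by rw [← AlgHom.comp_assoc, χ.2, hΦ]⟩
  let χ'' : HomSet Q.ring.carrier Q.ring.res (dual k k) := HomSet.map (tN l) c₀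
  have heq : χ'' = χ' := by
    refine (exists_ps_hom Q (fun i => χ.1 (x i)) fun i => (homSet_res χ _).trans (hxm i)).unique
      (fun i => ?_) fun i => congrArg χ.1 (hΦX i)
    change tN l (c₀.1 (Q.X i)) = χ.1 (x i)
    rw [hc₀ i]
    refine TrivSqZeroExt.ext ?_ ?_
    · exact (((homSet_res χ (x i)).trans (hxm i)).trans rfl).symm
    · change l (Pi.single i 1) = _
      rw [← Pi.basisFun_apply (R := k)]
      exact Module.Basis.constr_basis _ _ _ _
  exact (congrArg (tN l).toAlgHom (hcΦ a)).trans (DFunLike.congr_fun (congrArg Subtype.val heq) a)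

section Hull

variable {F : Art k k ⥤ Type v} (H : Hull F)
variable {d : ℕ} {Q : PSRing (kRing k) d} {Φ : Q.ring.carrier →ₐ[k] H.ring.carrier}

theorem finrank_tangent [TangentStr F] {c : HomSet H.ring.carrier H.ring.res (dualN k k d)}
    (hc : ∀ i, c.1 (Φ (Q.X i)) = (TrivSqZeroExt.inr (Pi.single i (1 : k)) : TrivSqZeroExt k (Fin d → k)))
    (hl : ∀ χ : HomSet H.ring.carrier H.ring.res (dual k k), ∃ l, HomSet.map (tN l) c = χ) :
    Module.finrank k (TangentSpace F) = d ∧ Module.Finite k (TangentSpace F) := by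
  have hb : Function.Bijective (tangentLin (F := F) (H.family.app _ c)) := by
    refine ⟨fun l l' h => ?_, fun y => ?_⟩
    · have h' : H.family.app _ (HomSet.map (tN l) c) = H.family.app _ (HomSet.map (tN l') c) := by
        rw [H.family.natural, H.family.natural]
        exact h
      have h2 := H.miniversal.2.1 h'
      refine (Pi.basisFun k (Fin d)).ext fun i => ?_
      have h3 : tN l (c.1 (Φ (Q.X i))) = tN l' (c.1 (Φ (Q.X i))) :=
        DFunLike.congr_fun (congrArg Subtype.val h2) _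
      rw [hc i] at h3
      rw [Pi.basisFun_apply]
      exact congrArg (TrivSqZeroExt.snd (R := k)) h3
    · obtain ⟨χ, hχ⟩ := H.miniversal.2.2 y
      obtain ⟨l, rfl⟩ := hl χ
      exact ⟨l, (H.family.natural _ _).symm.trans hχ⟩
  let e := LinearEquiv.ofBijective _ hb
  refine ⟨?_, Module.Finite.equiv e⟩
  rw [← e.finrank_eq, Module.finrank_linearMap, Module.finrank_fin_fun, Module.finrank_self, mul_one]

/-- Lifts of the tautological map kill second order relations. -/
theorem ker_le_of_lift (hsq : RingHom.ker Φ ≤ maximalIdeal Q.ring.carrier ^ 2) (hΦ : H.ring.res.comp Φ = Q.ring.res)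
    {A : Art k k} {I : Ideal A} (hI : maximalIdeal A * I = ⊥) (nat : HomSet Q.ring.carrier Q.ring.res A)
    (χ : HomSet H.ring.carrier H.ring.res A) (h : ∀ s, nat.1 s - χ.1 (Φ s) ∈ I) :
    ∀ j ∈ RingHom.ker Φ, nat.1 j = 0 := by
  intro j hj
  suffices nat.1 j = χ.1 (Φ j) by rw [this, show Φ j = 0 from hj, map_zero]
  have hz : ∀ a b, a ∈ maximalIdeal A → b ∈ I → a * b = 0 := fun a b ha hb =>
    Ideal.mem_bot.1 (hI ▸ Ideal.mul_mem_mul ha hb)
  have hm : ∀ a ∈ maximalIdeal Q.ring.carrier, nat.1 a ∈ maximalIdeal A ∧ χ.1 (Φ a) ∈ maximalIdeal A := by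
    intro a ha
    rw [CRing.mem_maximalIdeal_iff] at ha
    refine ⟨(Art.mem_maximalIdeal_iff A _).2 ((homSet_res nat a).trans ha), (Art.mem_maximalIdeal_iff A _).2 ?_⟩
    rw [homSet_res χ, ← AlgHom.comp_apply, hΦ]
    exact ha
  have hj2 := hsq hj
  rw [sq] at hj2
  refine Submodule.mul_induction_on hj2 (fun a ha b hb => ?_) fun a b ha hb => by
    rw [map_add, map_add, map_add, ha, hb]
  have e1 := hz _ _ (hm a ha).1 (h b)
  have e2 := hz _ _ (hm b hb).2 (h a)
  rw [map_mul, map_mul, map_mul]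
  linear_combination e1 + e2

/-- The truncated relation extension. -/
theorem exists_trunc_ext (hΦ : H.ring.res.comp Φ = Q.ring.res) (hΦs : Function.Surjective Φ) :
    ∃ (C' C : Art k k) (p : C' ⟶ C) (nat : HomSet Q.ring.carrier Q.ring.res C')
      (φ : HomSet H.ring.carrier H.ring.res C),
      IsSemismallExt p ∧ Function.Surjective nat.1 ∧ (∀ s, p (nat.1 s) = φ.1 (Φ s)) ∧
      (∀ t, p t = 0 → ∃ j ∈ RingHom.ker Φ, nat.1 j = t) ∧
      ∀ j ∈ RingHom.ker Φ, nat.1 j = 0 → j ∈ maximalIdeal Q.ring.carrier * RingHom.ker Φ := by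
  set J := RingHom.ker Φ
  set m := maximalIdeal Q.ring.carrier
  have hJm : J ≤ m := fun a (ha : Φ a = 0) => by
    rw [CRing.mem_maximalIdeal_iff, ← hΦ, AlgHom.comp_apply, ha, map_zero]
  obtain ⟨n, hn⟩ := Ideal.exists_pow_inf_eq_pow_smul m (M := Q.ring.carrier) J
  have hAR : m ^ (n + 1) ⊓ J ≤ m * J := by
    intro a ha
    have h1 := (hn (n + 1) (Nat.le_succ n)).le
      (show a ∈ m ^ (n + 1) • (⊤ : Submodule Q.ring.carrier Q.ring.carrier) ⊓ J from
        ⟨by rw [smul_eq_mul, Ideal.mul_top]; exact ha.1, ha.2⟩)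
    rw [Nat.add_sub_cancel_left, pow_one] at h1
    exact Submodule.smul_mono le_rfl inf_le_right h1
  let mk : HomSet Q.ring.carrier Q.ring.res (Q.ring.trunc n) := Q.ring.truncHom n
  have hmks : Function.Surjective mk.1 := Ideal.Quotient.mk_surjective
  have hmkm : ∀ a ∈ m, mk.1 a ∈ maximalIdeal (Q.ring.trunc n) := fun a ha =>
    (Art.mem_maximalIdeal_iff _ _).2 ((homSet_res mk a).trans ((CRing.mem_maximalIdeal_iff Q.ring a).mp ha))
  let K' : Ideal (Q.ring.trunc n) := (m * J).map mk.1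
  have hK' : K' ≤ maximalIdeal (Q.ring.trunc n) := Ideal.map_le_iff_le_comap.2 fun a ha =>
    Ideal.mem_comap.2 (hmkm a (Ideal.mul_le_left ha))
  let C' := Art.quot (Q.ring.trunc n) K' hK'
  let nat : HomSet Q.ring.carrier Q.ring.res C' := HomSet.map (quotMk _ K' hK') mk
  have hnats : Function.Surjective nat.1 := (quotMk_surjective _ K' hK').comp hmks
  have hnat : ∀ a, nat.1 a = 0 ↔ a ∈ m * J ⊔ m ^ (n + 1) := fun a => by
    refine Ideal.Quotient.eq_zero_iff_mem.trans (Iff.trans ?_ (Iff.rfl : a ∈ m * J ⊔ m ^ (n + 1) ↔ _))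
    have h1 : K'.comap mk.1 = m * J ⊔ m ^ (n + 1) := by
      change (Ideal.map (Ideal.Quotient.mk (mpow Q.ring n)) (m * J)).comap (Ideal.Quotient.mk (mpow Q.ring n)) = _
      rw [Ideal.comap_map_of_surjective _ Ideal.Quotient.mk_surjective, ← RingHom.ker_eq_comap_bot,
        Ideal.mk_ker]
    rw [← h1]
    rfl
  let V : Ideal C' := J.map nat.1
  have hV : V ≤ maximalIdeal C' := Ideal.map_le_iff_le_comap.2 fun a ha => Ideal.mem_comap.2
    ((Art.mem_maximalIdeal_iff _ _).2 ((homSet_res nat a).trans ((CRing.mem_maximalIdeal_iff Q.ring a).mp (hJm ha))))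
  have hVker : RingHom.ker (quotMk C' V hV).toAlgHom = V := ker_quotMk _ _ _
  have hmemV : ∀ t, t ∈ V → ∃ j ∈ J, nat.1 j = t := fun t ht => by
    obtain ⟨j, hj, h⟩ := (Ideal.mem_map_iff_of_surjective nat.1 hnats).1 ht
    exact ⟨j, hj, h⟩
  have hmV : maximalIdeal C' * V = ⊥ := by
    refine le_bot_iff.1 (Ideal.mul_le.2 fun a ha b hb => Ideal.mem_bot.2 ?_)
    obtain ⟨a, rfl⟩ := hnats a
    obtain ⟨b, hb', rfl⟩ := hmemV b hb
    have ha' : a ∈ m := by
      rw [CRing.mem_maximalIdeal_iff, ← homSet_res nat]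
      exact (Art.mem_maximalIdeal_iff _ _).1 ha
    rw [← map_mul, hnat]
    exact Ideal.mem_sup_left (Ideal.mul_mem_mul ha' hb')
  let C := Art.quot C' V hV
  let natC : HomSet Q.ring.carrier Q.ring.res C := HomSet.map (quotMk C' V hV) nat
  let φ₀ : H.ring.carrier →ₐ[k] C := AlgHom.liftOfSurjective Φ hΦs natC.1 fun a ha =>
    Ideal.Quotient.eq_zero_iff_mem.2 (Ideal.mem_map_of_mem _ ha)
  have hφ₀ : ∀ a, φ₀ (Φ a) = natC.1 a := fun a => AlgHom.liftOfSurjective_apply _ _ _ _ a
  refine ⟨C', C, quotMk C' V hV, nat, ⟨φ₀, AlgHom.ext fun r => ?_⟩,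
    ⟨quotMk_surjective C' V hV, by rw [hVker]; exact hmV⟩, hnats, fun s => (hφ₀ s).symm,
    fun t ht => hmemV t (hVker.le ht), fun j hj hj0 => ?_⟩
  · obtain ⟨a, rfl⟩ := hΦs r
    rw [AlgHom.comp_apply, hφ₀, homSet_res natC, ← hΦ]
    rfl
  · obtain ⟨y, hy, z, hz, rfl⟩ := Submodule.mem_sup.1 ((hnat _).1 hj0)
    refine add_mem hy (hAR ⟨hz, ?_⟩)
    have hyJ : y ∈ J := Ideal.mul_le_right hy
    simpa using sub_mem hj hyJ

theorem h0_of_hull (H : Hull F) (x y : F.obj (Art.base k k)) : x = y := by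
  have key : ∀ x : F.obj (Art.base k k), x = H.family.app _ ⟨H.ring.res, AlgHom.id_comp _⟩ := by
    intro x
    obtain ⟨χ, hχ⟩ := H.miniversal.2.2 (F.map baseToDual x)
    have h1 : F.map (toBase _) (F.map baseToDual x) = x := by
      rw [← map_comp', eq_toBase (baseToDual ≫ toBase _), ← eq_toBase (𝟙 (Art.base k k)), map_id']
    rw [← h1, ← hχ, ← H.family.natural]
    exact congrArg _ (Subtype.ext (AlgHom.ext fun r => homSet_res χ r))
  rw [key x, key y]

theorem smooth_of_ker_eq_bot (hΦ : H.ring.res.comp Φ = Q.ring.res) (hΦs : Function.Surjective Φ)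
    (hJ : RingHom.ker Φ = ⊥) : IsSmoothFunctor F := by
  intro B A μ hμ y
  obtain ⟨ψ, -, hψ⟩ := H.miniversal.1 (toBase A) A.res_surjective ⟨H.ring.res, AlgHom.id_comp _⟩ y
    (h0_of_hull H _ _)
  let e := AlgEquiv.ofBijective Φ ⟨(RingHom.injective_iff_ker_eq_bot Φ.toRingHom).2 hJ, hΦs⟩
  choose b hb using fun i => hμ (ψ.1 (Φ (Q.X i)))
  have hX : ∀ i, Q.ring.res (Q.X i) = 0 := fun i => (CRing.mem_maximalIdeal_iff Q.ring _).1 (psX_mem Q i)
  have hres : ∀ i, A.res (ψ.1 (Φ (Q.X i))) = 0 := fun i => by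
    rw [homSet_res ψ, ← AlgHom.comp_apply, hΦ, hX]
  obtain ⟨χ, hχ, -⟩ := exists_ps_hom Q b fun i => by rw [← Art.res_app μ, hb]; exact hres i
  let χR : HomSet H.ring.carrier H.ring.res B := ⟨χ.1.comp e.symm.toAlgHom, AlgHom.ext fun r => by
    obtain ⟨a, rfl⟩ := e.surjective r
    rw [AlgHom.comp_apply, AlgHom.comp_apply]
    change B.res (χ.1 (e.symm (e a))) = H.ring.res (Φ a)
    rw [e.symm_apply_apply, homSet_res χ, ← hΦ]
    rfl⟩
  let ψQ : HomSet Q.ring.carrier Q.ring.res A := ⟨ψ.1.comp Φ, by rw [← AlgHom.comp_assoc, ψ.2, hΦ]⟩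
  have heq : HomSet.map μ χ = ψQ :=
    (exists_ps_hom Q (fun i => ψ.1 (Φ (Q.X i))) hres).unique (fun i => (congrArg μ (hχ i)).trans (hb i))
      fun i => rfl
  refine ⟨H.family.app B χR, ?_⟩
  rw [← H.family.natural, ← hψ]
  congr 1
  refine Subtype.ext (AlgHom.ext fun r => ?_)
  obtain ⟨a, rfl⟩ := e.surjective r
  change μ (χ.1 (e.symm (e a))) = ψ.1 (Φ a)
  rw [e.symm_apply_apply]
  exact DFunLike.congr_fun (congrArg Subtype.val heq) a

theorem ker_eq_bot_of_smooth (hΦ : H.ring.res.comp Φ = Q.ring.res) (hΦs : Function.Surjective Φ)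
    (hsq : RingHom.ker Φ ≤ maximalIdeal Q.ring.carrier ^ 2) (hF : IsSmoothFunctor F) :
    RingHom.ker Φ = ⊥ := by
  obtain ⟨C', C, p, nat, φ, hp, -, hnat, -, hker⟩ := exists_trunc_ext H hΦ hΦs
  obtain ⟨y, hy⟩ := hF p hp.1 (H.family.app C φ)
  obtain ⟨χ, hχ, -⟩ := H.miniversal.1 p hp.1 φ y hy
  have h := ker_le_of_lift H hsq hΦ (I := RingHom.ker p.toAlgHom) hp.2 nat χ fun s => by
    rw [RingHom.mem_ker, map_sub]
    change p (nat.1 s) - (HomSet.map p χ).1 (Φ s) = 0
    rw [hχ, hnat, sub_self]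
  have hle : RingHom.ker Φ ≤ maximalIdeal Q.ring.carrier • RingHom.ker Φ := fun a ha => hker a ha (h a ha)
  exact Submodule.eq_bot_of_le_smul_of_le_jacobson_bot _ _
    (IsNoetherian.noetherian _) hle (IsLocalRing.maximalIdeal_le_jacobson _)

/-- The obstruction hypothesis. -/
def LinearObs (F : Art k k ⥤ Type v) (T : Type u) [AddCommGroup T] [Module k T] : Prop :=
  ∀ ⦃C' C : Art k k⦄ (p : C' ⟶ C), IsSemismallExt p → ∀ u : F.obj C,
    ∃ Ω : (C' →ₗ[k] k) →ₗ[k] T, ∀ L, Ω L = 0 → ∀ t, p t = 0 → L t = 1 →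
      ∃ (K : Ideal C') (hK : K ≤ maximalIdeal C') (hKp : K ≤ RingHom.ker p.toAlgHom),
        t ∉ K ∧ ∃ y, F.map (quotFactor hK p hKp) y = u

theorem exists_gens (hΦ : H.ring.res.comp Φ = Q.ring.res) (hΦs : Function.Surjective Φ)
    (hsq : RingHom.ker Φ ≤ maximalIdeal Q.ring.carrier ^ 2) {T : Type u} [AddCommGroup T] [Module k T]
    [Module.Finite k T] (hT : LinearObs F T) :
    (RingHom.ker Φ).spanFinrank ≤ Module.finrank k T := by
  classical
  obtain ⟨C', C, p, nat, φ, hp, hnats, hnat, hmem, hker⟩ := exists_trunc_ext H hΦ hΦs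
  obtain ⟨Ω, hΩ⟩ := hT p hp (H.family.app C φ)
  let V : Submodule k C' := (RingHom.ker p.toAlgHom).restrictScalars k
  let res : (C' →ₗ[k] k) →ₗ[k] Module.Dual k V := V.subtype.dualMap
  have hres : Function.Surjective res := LinearMap.dualMap_surjective_of_injective V.injective_subtype
  have hker' : LinearMap.ker Ω ≤ LinearMap.ker res := fun L hL => by
    by_contra hne
    obtain ⟨t, ht⟩ : ∃ t : V, L t.1 ≠ 0 := by
      by_contra h
      push Not at h
      exact hne (LinearMap.ext fun t => h t)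
    let s : C' := (L t.1)⁻¹ • t.1
    have hs : L s = 1 := by rw [map_smul, smul_eq_mul, inv_mul_cancel₀ ht]
    have hsV : s ∈ V := V.smul_mem _ t.2
    obtain ⟨K, hK, hKp, hsK, y, hy⟩ := hΩ L hL s hsV hs
    have hqs : Function.Surjective (quotFactor hK p hKp) := fun z => by
      obtain ⟨w, hw⟩ := hp.1 z
      exact ⟨quotMk C' K hK w, hw⟩
    obtain ⟨χ, hχ, -⟩ := H.miniversal.1 _ hqs φ y hy
    let I := RingHom.ker (quotFactor hK p hKp).toAlgHom
    have hI : maximalIdeal (quot C' K hK) * I = ⊥ := by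
      refine le_bot_iff.1 (Ideal.mul_le.2 fun a ha b hb => Ideal.mem_bot.2 ?_)
      obtain ⟨a, rfl⟩ := quotMk_surjective C' K hK a
      obtain ⟨b, rfl⟩ := quotMk_surjective C' K hK b
      have ha' : a ∈ maximalIdeal C' := (Art.mem_maximalIdeal_iff _ _).2
        ((Art.res_app (quotMk C' K hK) a).symm.trans ((Art.mem_maximalIdeal_iff _ _).1 ha))
      have h0 : a * b = 0 := Ideal.mem_bot.1 (hp.2 ▸ Ideal.mul_mem_mul ha' (show b ∈ RingHom.ker p.toAlgHom from hb))
      exact ((map_mul (quotMk C' K hK).toAlgHom a b).symm.trans (congrArg _ h0)).trans (map_zero _)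
    have h := ker_le_of_lift H hsq hΦ hI (HomSet.map (quotMk C' K hK) nat) χ fun z => by
      rw [RingHom.mem_ker, map_sub]
      change p (nat.1 z) - (HomSet.map (quotFactor hK p hKp) χ).1 (Φ z) = 0
      rw [hχ, hnat, sub_self]
    obtain ⟨j, hj, hjs⟩ := hmem s hsV
    refine hsK (Ideal.Quotient.eq_zero_iff_mem.1 ?_)
    have h1 := h j hj
    change Ideal.Quotient.mk K (nat.1 j) = 0 at h1
    rwa [hjs] at h1
  have hfr : Module.finrank k V ≤ Module.finrank k T := by
    haveI : Module.Finite k C' := ArtFunLib.finite_carrier C'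
    rw [← Subspace.dual_finrank_eq]
    have h1 := LinearMap.finrank_range_add_finrank_ker Ω
    have h2 := LinearMap.finrank_range_add_finrank_ker res
    have h3 := Submodule.finrank_mono hker'
    rw [LinearMap.range_eq_top.2 hres, finrank_top] at h2
    have h4 := Submodule.finrank_le (LinearMap.range Ω)
    omega
  haveI : Module.Finite k C' := ArtFunLib.finite_carrier C'
  let b := Module.finBasis k V
  choose y hyJ hy using fun i => hmem (b i).1 (b i).2
  let Y : Ideal Q.ring.carrier := Ideal.span (Set.range y)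
  have hle : RingHom.ker Φ ≤ Y ⊔ maximalIdeal Q.ring.carrier • RingHom.ker Φ := by
    intro a ha
    have hpa : nat.1 a ∈ V := by
      change p (nat.1 a) = 0
      rw [hnat, show Φ a = 0 from ha, map_zero]
    let c := b.repr ⟨_, hpa⟩
    let a' := a - ∑ i, c i • y i
    have hyY : ∑ i, c i • y i ∈ Y := Submodule.sum_mem _ fun i _ =>
      Submodule.smul_of_tower_mem Y (c i) (Ideal.subset_span ⟨i, rfl⟩)
    have ha'J : a' ∈ RingHom.ker Φ := sub_mem ha (Submodule.sum_mem _ fun i _ =>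
      Submodule.smul_of_tower_mem (RingHom.ker Φ) (c i) (hyJ i))
    have h0 : nat.1 a' = 0 := by
      have hs := congrArg Subtype.val (b.sum_repr ⟨_, hpa⟩)
      rw [Submodule.coe_sum] at hs
      rw [map_sub, sub_eq_zero, map_sum]
      refine hs.symm.trans (Finset.sum_congr rfl fun i _ => ?_)
      rw [map_smul, hy]
      rfl
    rw [← sub_add_cancel a (∑ i, c i • y i), add_comm]
    exact Submodule.add_mem_sup hyY (hker a' ha'J h0)
  have hYJ : Y ≤ RingHom.ker Φ := Ideal.span_le.2 (by rintro _ ⟨i, rfl⟩; exact hyJ i)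
  have hY : RingHom.ker Φ = Y := le_antisymm
    (Submodule.le_of_le_smul_of_le_jacobson_bot (IsNoetherian.noetherian _)
      (IsLocalRing.maximalIdeal_le_jacobson _) hle) hYJ
  rw [hY]
  refine le_trans ((Submodule.spanFinrank_span_le_ncard_of_finite (Set.finite_range y)).trans ?_) hfr
  rw [← Set.image_univ]
  refine (Set.ncard_image_le Set.finite_univ).trans ?_
  rw [Set.ncard_univ, Nat.card_fin]

/-- The dimension of a hull. -/
theorem hull_dim (H : Hull F) [TangentStr F] :
    ringKrullDim H.ring.carrier ≤ ((Module.finrank k (TangentSpace F) : ℕ∞) : WithBot ℕ∞) ∧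
    (ringKrullDim H.ring.carrier = ((Module.finrank k (TangentSpace F) : ℕ∞) : WithBot ℕ∞) ↔ IsSmoothFunctor F) ∧
    ∀ (T : Type u) [AddCommGroup T] [Module k T] [Module.Finite k T], LinearObs F T →
      ((Module.finrank k (TangentSpace F) : ℕ∞) : WithBot ℕ∞) ≤
        ringKrullDim H.ring.carrier + ((Module.finrank k T : ℕ∞) : WithBot ℕ∞) := by
  obtain ⟨d, Q, Φ, c, hΦ, hΦs, hsq, hc, hl⟩ := exists_presentation H.ring
  obtain ⟨hd, -⟩ := finrank_tangent H hc hl
  obtain ⟨hdim, hdom⟩ := ps_dim Q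
  rw [hd, ← hdim]
  have hJm : RingHom.ker Φ ≤ maximalIdeal Q.ring.carrier := hsq.trans (Ideal.pow_le_self two_ne_zero)
  let e : (Q.ring.carrier ⧸ RingHom.ker Φ) ≃+* H.ring.carrier :=
    RingHom.quotientKerEquivOfSurjective (f := Φ.toRingHom) hΦs
  have hle : ringKrullDim H.ring.carrier ≤ ringKrullDim Q.ring.carrier :=
    ringKrullDim_le_of_surjective Φ.toRingHom hΦs
  refine ⟨hle, ⟨fun h => smooth_of_ker_eq_bot H hΦ hΦs ?_, fun h => ?_⟩, fun T _ _ _ hT => ?_⟩
  · by_contra hne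
    obtain ⟨a, ha, ha0⟩ := Submodule.exists_mem_ne_zero_of_ne_bot hne
    haveI := hdom
    have h1 := ringKrullDim_quotient_succ_le_of_nonZeroDivisor (mem_nonZeroDivisors_of_ne_zero ha0)
    have h2 : ringKrullDim H.ring.carrier ≤ ringKrullDim (Q.ring.carrier ⧸ Ideal.span {a}) := by
      rw [← ringKrullDim_eq_of_ringEquiv e]
      exact ringKrullDim_le_of_surjective (Ideal.Quotient.factor ((Ideal.span_singleton_le_iff_mem _).2 ha))
        (Ideal.Quotient.factor_surjective _)
    have h3 := (add_le_add h2 le_rfl).trans h1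
    rw [h, hdim] at h3
    have h4 : (d : WithBot ℕ∞) + 1 ≤ (d : WithBot ℕ∞) := h3
    have h5 : d + 1 ≤ d := by exact_mod_cast h4
    omega
  · have hJ := ker_eq_bot_of_smooth H hΦ hΦs hsq h
    exact (ringKrullDim_eq_of_ringEquiv (RingEquiv.ofBijective Φ.toRingHom
      ⟨(RingHom.injective_iff_ker_eq_bot Φ.toRingHom).2 hJ, hΦs⟩)).symm
  · have hr := exists_gens H hΦ hΦs hsq hT
    refine (ringKrullDim_le_ringKrullDim_quotient_add_spanFinrank (RingHom.ker Φ)
      (hJm.trans_eq (IsLocalRing.ringJacobson_eq_maximalIdeal _).symm)).trans ?_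
    rw [ringKrullDim_eq_of_ringEquiv e]
    exact add_le_add le_rfl (by exact_mod_cast hr)

end Hull

end Groth.Agent.DefAffHull
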