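import Groth.Agent.DefAffHull.Ring
import Groth.Agent.DefAff.Scheme
import Groth.Agent.ArtFunLib.Functor

/-!
# Deformations of an affine scheme as algebras; the fibre product conditions
-/

set_option autoImplicit false
set_option linter.unusedSectionVars false
universe u

open CategoryTheory CategoryTheory.Limits AlgebraicGeometry IsLocalRing ArtFun

namespace Groth.Agent.DefAffHull

variable {Λ k : Type u} [CommRing Λ] [Field k] [Algebra Λ k]
variable {B₀ : Type u} [CommRing B₀] [Algebra k B₀]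

variable (k B₀) in
/-- `Spec B₀ → Spec k`. -/
noncomputable abbrev str : Spec (CommRingCat.of B₀) ⟶ Art.specPt k :=
  Spec.map (CommRingCat.ofHom (algebraMap k B₀))

variable {A A' : Art Λ k} {R R' : Type u} [CommRing R] [CommRing R']
variable {f : A →+* R} {q : R →+* B₀} {f' : A' →+* R'} {q' : R' →+* B₀}

theorem IsDef.ker_eq (h : IsDef A f q) : RingHom.ker q = (maximalIdeal A).map f := by
  refine le_antisymm h.ker_le (Ideal.map_le_iff_le_comap.2 fun a ha => ?_)
  rw [Ideal.mem_comap, RingHom.mem_ker, h.comp, (Art.mem_maximalIdeal_iff A a).1 ha, map_zero]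

/-- The deformation of `Spec B₀` given by a deformation of `B₀`. -/
noncomputable def IsDef.toDef (h : IsDef A f q) : DefSch (Spec (CommRingCat.of B₀)) (str k B₀) A where
  total := Spec (CommRingCat.of R)
  f := Spec.map (CommRingCat.ofHom f)
  flat := Flat.SpecMap_iff.mpr h.flat
  i := Spec.map (CommRingCat.ofHom q)
  isPullback := isPullback_SpecMap_of_isPushout _ _ _ _
    (DefAff.isPushout_of_surj_ker A.res_surjective h.surj (RingHom.ext h.comp)
      (h.ker_eq.trans (by rw [DefAff.ker_res])))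

/-- Every deformation is affine. -/
theorem exists_isDef (ξ : DefSch (Spec (CommRingCat.of B₀)) (str k B₀) A) :
    ∃ (R : Type u) (_ : CommRing R) (f : A →+* R) (q : R →+* B₀) (h : IsDef A f q),
      Nonempty (h.toDef.Iso ξ) := by
  obtain ⟨B, f, q, w, hw₁, hw₂, hfl, hqs, hqk, hqf⟩ := DefAff.exists_aff (xr := algebraMap k B₀) rfl ξ
  exact ⟨B, inferInstance, f, q, ⟨fun a => RingHom.congr_fun hqf a, hqs, hqk.le, hfl⟩,
    ⟨⟨w, hw₁, hw₂⟩⟩⟩

theorem exists_isDef_cl (c : (defFunctor (Λ := Λ) (Spec (CommRingCat.of B₀)) (str k B₀)).obj A) :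
    ∃ (R : Type u) (_ : CommRing R) (f : A →+* R) (q : R →+* B₀) (h : IsDef A f q), h.toDef.cl = c := by
  induction c using Quotient.inductionOn with | h ξ => ?_
  obtain ⟨R, i, f, q, h, he⟩ := exists_isDef ξ
  exact ⟨R, i, f, q, h, Quotient.sound he⟩

/-- A morphism of deformations is an isomorphism. -/
theorem nonempty_iso_of_hom {η η' : DefSch (Spec (CommRingCat.of B₀)) (str k B₀) A}
    (φ : η.total ⟶ η'.total) (hf : φ ≫ η'.f = η.f) (hi : η.i ≫ φ = η'.i) :
    Nonempty (η.Iso η') := by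
  obtain ⟨R, _, f, q, h, ⟨e⟩⟩ := exists_isDef η
  obtain ⟨R', _, f', q', h', ⟨e'⟩⟩ := exists_isDef η'
  let ψ : Spec (CommRingCat.of R) ⟶ Spec (CommRingCat.of R') := e.iso.hom ≫ φ ≫ e'.iso.inv
  obtain ⟨g, hg⟩ : ∃ g : CommRingCat.of R' ⟶ CommRingCat.of R, Spec.map g = ψ :=
    ⟨Spec.preimage ψ, Spec.map_preimage _⟩
  have hgf : CommRingCat.ofHom f' ≫ g = CommRingCat.ofHom f := by
    refine Spec.map_injective ?_
    rw [Spec.map_comp, hg]
    change (e.iso.hom ≫ φ ≫ e'.iso.inv) ≫ h'.toDef.f = h.toDef.f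
    rw [Category.assoc, Category.assoc, show e'.iso.inv ≫ h'.toDef.f = η'.f from e'.symm.hom_f, hf,
      e.hom_f]
  have hgq : g ≫ CommRingCat.ofHom q = CommRingCat.ofHom q' := by
    refine Spec.map_injective ?_
    rw [Spec.map_comp, hg]
    change h.toDef.i ≫ e.iso.hom ≫ φ ≫ e'.iso.inv = h'.toDef.i
    rw [← Category.assoc h.toDef.i, e.i_hom, ← Category.assoc η.i, hi]
    exact e'.symm.i_hom
  have hb : Function.Bijective g.hom := h'.bijective_hom h g.hom
    (fun a => RingHom.congr_fun (congrArg CommRingCat.Hom.hom hgf) a)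
    (fun r => RingHom.congr_fun (congrArg CommRingCat.Hom.hom hgq) r)
  haveI : IsIso g := (ConcreteCategory.isIso_iff_bijective g).2 hb
  haveI : IsIso (Spec.map g) := inferInstance
  have hψ : IsIso ψ := hg ▸ inferInstance
  haveI : IsIso (e.iso.hom ≫ φ ≫ e'.iso.inv) := hψ
  haveI : IsIso (φ ≫ e'.iso.inv) := IsIso.of_isIso_comp_left e.iso.hom _
  haveI : IsIso φ := IsIso.of_isIso_comp_right φ e'.iso.inv
  exact ⟨⟨asIso φ, hf, hi⟩⟩

theorem map_cl_of_hom {g : A ⟶ A'} (h : IsDef A f q) (h' : IsDef A' f' q') (φ : R →+* R')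
    (hf : ∀ a, φ (f a) = f' (g a)) (hq : ∀ r, q' (φ r) = q r) :
    (defFunctor _ _).map g h.toDef.cl = h'.toDef.cl := by
  let m : h'.toDef.total ⟶ h.toDef.total := Spec.map (CommRingCat.ofHom φ)
  have w : m ≫ h.toDef.f = h'.toDef.f ≫ Art.specMap g := by
    change Spec.map _ ≫ Spec.map _ = Spec.map _ ≫ Spec.map _
    rw [← Spec.map_comp, ← Spec.map_comp]
    congr 1
    exact CommRingCat.hom_ext (RingHom.ext hf)
  have wi : h'.toDef.i ≫ m = h.toDef.i := by
    change Spec.map _ ≫ Spec.map _ = Spec.map _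
    rw [← Spec.map_comp]
    congr 1
    exact CommRingCat.hom_ext (RingHom.ext hq)
  refine (Quotient.sound (nonempty_iso_of_hom (η := h'.toDef) (η' := h.toDef.baseChange g)
    (pullback.lift m _ w) (pullback.lift_snd _ _ _) ?_)).symm
  apply pullback.hom_ext
  · rw [Category.assoc, pullback.lift_fst, wi, DefSch.baseChange_i_fst]
  · rw [Category.assoc, pullback.lift_snd]
    exact h'.toDef.i_f.trans (DefSch.baseChange_i_f h.toDef g).symm

theorem exists_hom_of_map_cl {g : A ⟶ A'} (h : IsDef A f q) (h' : IsDef A' f' q')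
    (he : (defFunctor _ _).map g h.toDef.cl = h'.toDef.cl) :
    ∃ φ : R →+* R', (∀ a, φ (f a) = f' (g a)) ∧ ∀ r, q' (φ r) = q r := by
  obtain ⟨e⟩ := Quotient.exact he
  let ψ : Spec (CommRingCat.of R') ⟶ Spec (CommRingCat.of R) :=
    e.iso.inv ≫ pullback.fst h.toDef.f (Art.specMap g)
  obtain ⟨φ, hφ⟩ : ∃ φ : CommRingCat.of R ⟶ CommRingCat.of R', Spec.map φ = ψ :=
    ⟨Spec.preimage ψ, Spec.map_preimage _⟩
  refine ⟨φ.hom, fun a => ?_, fun r => ?_⟩
  · have h1 : CommRingCat.ofHom f ≫ φ = CommRingCat.ofHom g.toAlgHom.toRingHom ≫ CommRingCat.ofHom f' := by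
      refine Spec.map_injective ?_
      rw [Spec.map_comp, hφ, Spec.map_comp]
      change (e.iso.inv ≫ pullback.fst h.toDef.f (Art.specMap g)) ≫ h.toDef.f =
        h'.toDef.f ≫ Art.specMap g
      rw [Category.assoc, pullback.condition, ← Category.assoc,
        show e.iso.inv ≫ pullback.snd h.toDef.f (Art.specMap g) = h'.toDef.f from e.symm.hom_f]
    exact RingHom.congr_fun (congrArg CommRingCat.Hom.hom h1) a
  · have h1 : φ ≫ CommRingCat.ofHom q' = CommRingCat.ofHom q := by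
      refine Spec.map_injective ?_
      rw [Spec.map_comp, hφ]
      change h'.toDef.i ≫ e.iso.inv ≫ pullback.fst h.toDef.f (Art.specMap g) = h.toDef.i
      rw [← Category.assoc, show h'.toDef.i ≫ e.iso.inv = (h.toDef.baseChange g).i from e.symm.i_hom]
      exact DefSch.baseChange_i_fst h.toDef g
    exact RingHom.congr_fun (congrArg CommRingCat.Hom.hom h1) r

variable (Λ k B₀) in
/-- `k → B₀`, from the final object. -/
noncomputable def baseHom : (Art.base Λ k) →+* B₀ := @algebraMap k B₀ _ _ _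

variable (Λ k B₀) in
/-- `B₀` over `k`. -/
theorem isDef_base : IsDef (Art.base Λ k) (baseHom Λ k B₀) (RingHom.id B₀) where
  comp _ := rfl
  surj b := ⟨b, rfl⟩
  ker_le r hr := by
    rw [show r = 0 from hr]
    exact zero_mem _
  flat := (RingHom.flat_algebraMap_iff.mpr inferInstance : (algebraMap k B₀).Flat)

theorem cl_eq_base {R : Type u} [CommRing R] {f : Art.base Λ k →+* R} {q : R →+* B₀}
    (h : IsDef (Art.base Λ k) f q) : h.toDef.cl = (isDef_base Λ k B₀).toDef.cl := by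
  rw [← ArtFunLib.map_id' _ h.toDef.cl]
  exact map_cl_of_hom (g := 𝟙 _) h (isDef_base Λ k B₀) q (fun a => h.comp a) fun r => rfl

theorem h0 : H0 (defFunctor (Λ := Λ) (Spec (CommRingCat.of B₀)) (str k B₀)) := by
  refine ⟨⟨(isDef_base Λ k B₀).toDef.cl⟩, ⟨fun c d => ?_⟩⟩
  obtain ⟨R, _, f, q, h, rfl⟩ := exists_isDef_cl c
  obtain ⟨R', _, f', q', h', rfl⟩ := exists_isDef_cl d
  rw [cl_eq_base h, cl_eq_base h']

theorem s1 : S1 (defFunctor (Λ := Λ) (Spec (CommRingCat.of B₀)) (str k B₀)) := by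
  intro B A A' A'' p' p'' g' g'' hP hg
  refine ArtFunLib.cmp_surjective fun x₁ x₂ hx => ?_
  obtain ⟨R', _, f', q', hR', rfl⟩ := exists_isDef_cl x₁
  obtain ⟨R'', _, f'', q'', hR'', rfl⟩ := exists_isDef_cl x₂
  obtain ⟨R, _, f, q, hR, he⟩ := exists_isDef_cl ((defFunctor _ _).map g'' hR''.toDef.cl)
  obtain ⟨a, ha, haq⟩ := exists_hom_of_map_cl hR' hR (hx.trans he.symm)
  obtain ⟨b, hb, hbq⟩ := exists_hom_of_map_cl hR'' hR he.symm
  obtain ⟨P, _, F, Q, π', π'', hD, h1, h2, h3, h4, -, -⟩ :=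
    exists_fibre_product hP hg hR hR' hR'' a b ha hb haq hbq
  exact ⟨hD.toDef.cl, map_cl_of_hom hD hR' π' h1 h3, map_cl_of_hom hD hR'' π'' h2 h4⟩

theorem heps : Heps (defFunctor (Λ := Λ) (Spec (CommRingCat.of B₀)) (str k B₀)) := by
  intro B A' p' p'' hP
  refine ⟨ArtFunLib.cmp_injective fun z₁ z₂ h₁ h₂ => ?_, s1 p' p'' _ _ hP (ArtFunLib.toBase_surjective _)⟩
  obtain ⟨R₁, _, f₁, q₁, hR₁, rfl⟩ := exists_isDef_cl z₁
  obtain ⟨R₂, _, f₂, q₂, hR₂, rfl⟩ := exists_isDef_cl z₂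
  obtain ⟨R', _, f', q', hR', e'⟩ := exists_isDef_cl ((defFunctor _ _).map p' hR₁.toDef.cl)
  obtain ⟨R'', _, f'', q'', hR'', e''⟩ := exists_isDef_cl ((defFunctor _ _).map p'' hR₁.toDef.cl)
  obtain ⟨P, _, F, Q, π', π'', hD, hπ', hπ'', hQ', hQ'', hex, huniq⟩ :=
    exists_fibre_product hP (ArtFunLib.toBase_surjective _) (isDef_base Λ k B₀) hR' hR'' q' q''
      (fun x => hR'.comp x) (fun x => hR''.comp x) (fun r => rfl) (fun r => rfl)
  have key : ∀ (R₀ : Type u) [CommRing R₀] (f₀ : B →+* R₀) (q₀ : R₀ →+* B₀) (h₀ : IsDef B f₀ q₀),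
      (defFunctor _ _).map p' h₀.toDef.cl = hR'.toDef.cl →
      (defFunctor _ _).map p'' h₀.toDef.cl = hR''.toDef.cl → h₀.toDef.cl = hD.toDef.cl := by
    intro R₀ _ f₀ q₀ h₀ u' u''
    obtain ⟨α, hα, hαq⟩ := exists_hom_of_map_cl h₀ hR' u'
    obtain ⟨β, hβ, hβq⟩ := exists_hom_of_map_cl h₀ hR'' u''
    choose m hm' hm'' using fun r => hex (α r) (β r) ((hαq r).trans (hβq r).symm)
    let μ : R₀ →+* P :=
      { toFun := m
        map_one' := huniq _ _ (by simp [hm']) (by simp [hm''])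
        map_mul' := fun r s => huniq _ _ (by simp [hm']) (by simp [hm''])
        map_zero' := huniq _ _ (by simp [hm']) (by simp [hm''])
        map_add' := fun r s => huniq _ _ (by simp [hm']) (by simp [hm'']) }
    rw [← ArtFunLib.map_id' _ h₀.toDef.cl]
    refine map_cl_of_hom (g := 𝟙 _) h₀ hD μ (fun x => huniq _ _ ?_ ?_) fun r => ?_
    · change π' (m (f₀ x)) = π' (F x)
      rw [hm', hπ', hα]
    · change π'' (m (f₀ x)) = π'' (F x)
      rw [hm'', hπ'', hβ]
    · change Q (m r) = q₀ r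
      rw [← hQ', hm', hαq]
  exact (key R₁ f₁ q₁ hR₁ e'.symm e''.symm).trans
    (key R₂ f₂ q₂ hR₂ (h₁.symm.trans e'.symm) (h₂.symm.trans e''.symm)).symm

end Groth.Agent.DefAffHull
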