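import Groth.Agent.RelLift.Obstruction
import Groth.Agent.DefAffHull.Scheme

/-!
# The obstruction to lifting an affine deformation, linearly in the kernel
-/

set_option autoImplicit false
set_option backward.isDefEq.respectTransparency false
set_option linter.unusedSectionVars false
set_option maxHeartbeats 500000
universe u w s₁

open CategoryTheory ArtFun IsLocalRing TensorProduct MvPolynomial
open Groth.Agent.RelLift

namespace Groth.Agent.DefAffHull

variable {Λ k : Type u} [CommRing Λ] [Field k] [Algebra Λ k]
variable {B₀ : Type u} [CommRing B₀] [Algebra k B₀] {ι σ : Type u}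
variable (P : Algebra.Presentation k B₀ ι σ)
variable {A' A : Art Λ k}

/-- Evaluation of polynomials over `A` in `B`. -/
noncomputable def emb {B : Type u} [CommRing B] (f : A →+* B) (bl : ι → B) : MvPolynomial ι A →+* B :=
  MvPolynomial.eval₂Hom f bl

/-- The combination of given relations. -/
noncomputable abbrev lin {A : Art Λ k} (g : σ → MvPolynomial ι A) :
    (σ →₀ MvPolynomial ι A) →ₗ[MvPolynomial ι A] MvPolynomial ι A :=
  Finsupp.linearCombination _ g

/-- Lifts of the relations presenting a deformation. -/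
structure Embedding {B : Type u} [CommRing B] (f : A →+* B) (q : B →+* B₀) : Type u where
  bl : ι → B
  g : σ → MvPolynomial ι A
  q_bl : ∀ i, q (bl i) = P.val i
  surj : Function.Surjective (emb f bl)
  emb_g : ∀ s, emb f bl (g s) = 0
  r0_g : ∀ s, r0 P A (g s) = CotT.rel P s
  span : ∀ x, emb f bl x = 0 → ∃ u, lin g u = x
  lift : ∀ q₀ : CotT.relKer P, ∃ u : σ →₀ MvPolynomial ι A,
    lin g u = 0 ∧ u.mapRange (r0 P A) (_root_.map_zero _) = (q₀ : CotT.relMod P)
  small : ∀ u : σ →₀ MvPolynomial ι A, lin g u = 0 → u.mapRange (r0 P A) (_root_.map_zero _) = 0 →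
    u ∈ maximalIdeal A • (LinearMap.ker (lin g)).restrictScalars A

/-- A deformation can be embedded. -/
theorem exists_embedding {B : Type u} [CommRing B] {f : A →+* B} {q : B →+* B₀} (hR : IsDef A f q) :
    Nonempty (Embedding P f q) := by
  classical
  letI : Algebra A B := f.toAlgebra
  haveI : Module.Flat A B := hR.flat
  have hk : RingHom.ker q = (maximalIdeal A).map f := hR.ker_eq
  have hq : Function.Surjective q := hR.surj
  have hc : q.comp f = (algebraMap k B₀).comp A.res.toRingHom := RingHom.ext hR.comp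
  haveI := Groth.Agent.TFun.free_of_flat (A := A) B
  let ev : P.toExtension.Ring →+* B₀ := algebraMap P.toExtension.Ring B₀
  choose bl hbl using fun i => hq (P.val i)
  let π : MvPolynomial ι A →ₐ[A] B := MvPolynomial.aeval bl
  have hqC : ∀ c : A, q (algebraMap A B c) = algebraMap k B₀ (A.res c) := fun c => RingHom.congr_fun hc c
  have hqπ : ∀ x, q (π x) = ev (r0 P A x) := by
    intro x
    induction x using MvPolynomial.induction_on with
    | C c => rw [r0_C, MvPolynomial.aeval_C, hqC]; exact (ev_C P _).symm
    | add a b ha hb => rw [map_add, map_add, ha, hb, map_add, map_add]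
    | mul_X a i ha =>
      rw [map_mul, map_mul, ha, map_mul, map_mul, r0_X, MvPolynomial.aeval_X, hbl]
      exact congrArg _ (ev_X P i).symm
  have hπs : Function.Surjective π := by
    have h : LinearMap.range π.toLinearMap = ⊤ := by
      refine Groth.Agent.TFun.eq_top_of_sup_maximalIdeal_smul (top_le_iff.1 fun x _ => ?_)
      obtain ⟨r, hr⟩ := P.toExtension.algebraMap_surjective (q x)
      obtain ⟨r', rfl⟩ := r0_surjective P (A := A) r
      rw [← add_sub_cancel (π r') x]
      refine Submodule.add_mem_sup ⟨_, rfl⟩ ?_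
      rw [Ideal.smul_top_eq_map]
      change x - π r' ∈ (maximalIdeal A).map f
      rw [← hk, RingHom.mem_ker, map_sub, hqπ]
      exact sub_eq_zero.2 hr.symm
    exact LinearMap.range_eq_top.1 h
  obtain ⟨σB, hσB⟩ := Module.projective_lifting_property π.toLinearMap LinearMap.id hπs
  let I : Submodule A (MvPolynomial ι A) := LinearMap.ker π.toLinearMap
  let ε : MvPolynomial ι A →ₗ[A] I :=
    (LinearMap.id - σB ∘ₗ π.toLinearMap).codRestrict I fun x => by
      have := LinearMap.congr_fun hσB (π x)
      rw [LinearMap.mem_ker, LinearMap.sub_apply, map_sub]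
      exact sub_eq_zero.2 this.symm
  have hε : ∀ x : I, ε x = x := fun x => Subtype.ext (by
    change (x : MvPolynomial ι A) - σB (π x) = x
    rw [show π (x : MvPolynomial ι A) = 0 from x.2, _root_.map_zero, sub_zero])
  haveI : Module.Projective A I :=
    Module.Projective.of_split I.subtype ε (LinearMap.ext hε)
  have hmI : ∀ x : MvPolynomial ι A, π x = 0 → r0 P A x = 0 → x ∈ maximalIdeal A • I := by
    intro x hx h0
    have h1 : x ∈ maximalIdeal A • (⊤ : Submodule A (MvPolynomial ι A)) := by
      rw [Ideal.smul_top_eq_map]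
      exact mem_map_of_r0_eq_zero P h0
    have h2 := Submodule.mem_map_of_mem (f := I.subtype ∘ₗ ε) h1
    rw [Submodule.map_smul''] at h2
    have h3 : (I.subtype ∘ₗ ε) x = x := congrArg Subtype.val (hε ⟨x, hx⟩)
    rw [h3] at h2
    exact Submodule.smul_mono le_rfl (by rintro _ ⟨y, -, rfl⟩; exact (ε y).2) h2
  have hker0 : ∀ f0 : P.toExtension.Ring, ev f0 = 0 → ∃ x, π x = 0 ∧ r0 P A x = f0 := by
    intro f0 hf0
    obtain ⟨x, rfl⟩ := r0_surjective P (A := A) f0
    have hx : π x ∈ (maximalIdeal A).map f := by rw [← hk, RingHom.mem_ker, hqπ, hf0]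
    rw [show f = π.toRingHom.comp (algebraMap A (MvPolynomial ι A)) from
      (RingHom.ext fun c => (π.commutes c).symm), ← Ideal.map_map] at hx
    obtain ⟨y, hy, hy'⟩ := (Ideal.mem_map_iff_of_surjective π.toRingHom hπs).1 hx
    refine ⟨x - y, by rw [map_sub, sub_eq_zero]; exact hy'.symm, ?_⟩
    have hy0 : r0 P A y = 0 := by
      have hle : (maximalIdeal A).map (algebraMap A (MvPolynomial ι A)) ≤ RingHom.ker (r0 P A) :=
        Ideal.map_le_iff_le_comap.2 fun c hc => by
          change r0 P A (C c) = 0
          rw [r0_C, (Art.mem_maximalIdeal_iff A c).1 hc, _root_.map_zero]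
      exact hle hy
    rw [map_sub, hy0, sub_zero]
  choose g hg hg0 using fun s => hker0 (CotT.rel P s) (CotT.algebraMap_rel P s)
  let jA : (σ →₀ MvPolynomial ι A) →ₗ[MvPolynomial ι A] MvPolynomial ι A :=
    Finsupp.linearCombination _ g
  have hj0 : ∀ u, r0 P A (jA u) = CotT.jmap P (u.mapRange (r0 P A) (_root_.map_zero _)) := fun u =>
    linearCombination_mapRange (r0 P A) hg0 u
  have hjI : ∀ u, π (jA u) = 0 := by
    intro u
    have hle : LinearMap.range jA ≤ RingHom.ker π.toRingHom := by
      rw [Finsupp.range_linearCombination]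
      exact Submodule.span_le.2 (by rintro _ ⟨s, rfl⟩; exact hg s)
    exact hle ⟨u, rfl⟩
  have hspan : ∀ x, π x = 0 → x ∈ LinearMap.range jA := by
    have hle : I ≤ (LinearMap.range jA).restrictScalars A := le_of_le_sup_smul fun x hx => by
      have h0 : r0 P A x ∈ LinearMap.range (CotT.jmap P) := by
        rw [CotT.range_jmap]
        change ev (r0 P A x) = 0
        rw [← hqπ, show π x = 0 from hx, _root_.map_zero]
      obtain ⟨a, ha⟩ := h0
      obtain ⟨u, rfl⟩ := Finsupp.mapRange_surjective _ (_root_.map_zero _) (r0_surjective P (A := A)) a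
      rw [← add_sub_cancel (jA u) x]
      refine Submodule.add_mem_sup ⟨u, rfl⟩ (hmI _ ?_ ?_)
      · rw [map_sub, hjI, sub_zero]; exact hx
      · rw [map_sub, hj0, ha, sub_self]
    exact fun x hx => hle hx
  let jI : (σ →₀ MvPolynomial ι A) →ₗ[A] I :=
    (jA.restrictScalars A).codRestrict I fun u => hjI u
  obtain ⟨τ, hτ⟩ := Module.projective_lifting_property jI LinearMap.id (fun x => by
    obtain ⟨u, hu⟩ := hspan x.1 x.2
    exact ⟨u, Subtype.ext hu⟩)
  let εF : (σ →₀ MvPolynomial ι A) →ₗ[A] (σ →₀ MvPolynomial ι A) := LinearMap.id - τ ∘ₗ jI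
  have hεF0 : ∀ u, jA (εF u) = 0 := fun u => by
    have := congrArg Subtype.val (LinearMap.congr_fun hτ (jI u))
    change jA (u - τ (jI u)) = 0
    rw [map_sub, sub_eq_zero]
    exact this.symm
  have hεF : ∀ u, jA u = 0 → εF u = u := fun u hu => by
    change u - τ (jI u) = u
    rw [show jI u = 0 from Subtype.ext hu, _root_.map_zero, sub_zero]
  have hmF : ∀ u : σ →₀ MvPolynomial ι A, u.mapRange (r0 P A) (_root_.map_zero _) = 0 →
      u ∈ maximalIdeal A • (⊤ : Submodule A (σ →₀ MvPolynomial ι A)) := by
    intro u hu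
    rw [← Finsupp.sum_single u]
    refine Submodule.sum_mem _ fun s _ => ?_
    have h1 : u s ∈ maximalIdeal A • (⊤ : Submodule A (MvPolynomial ι A)) := by
      rw [Ideal.smul_top_eq_map]
      exact mem_map_of_r0_eq_zero P (by have := DFunLike.congr_fun hu s; simpa using this)
    exact Submodule.smul_top_le_comap_smul_top _ (Finsupp.lsingle s) h1
  have hmr : ∀ y ∈ maximalIdeal A • (⊤ : Submodule A (σ →₀ MvPolynomial ι A)),
      y.mapRange (r0 P A) (_root_.map_zero _) = 0 := by
    intro y hy
    induction hy using Submodule.smul_induction_on' with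
    | smul c hc z _ =>
      ext s
      rw [Finsupp.mapRange_apply, Finsupp.smul_apply, MvPolynomial.smul_eq_C_mul, map_mul, r0_C,
        (Art.mem_maximalIdeal_iff A c).1 hc, _root_.map_zero, zero_mul]
      rfl
    | add a _ b _ ha hb => rw [Finsupp.mapRange_add (map_add _), ha, hb, add_zero]
  have hexlift : ∀ q₀ : CotT.relKer P, ∃ u : σ →₀ MvPolynomial ι A,
      jA u = 0 ∧ u.mapRange (r0 P A) (_root_.map_zero _) = (q₀ : CotT.relMod P) := by
    intro q₀
    obtain ⟨u₀, hu₀⟩ := Finsupp.mapRange_surjective _ (_root_.map_zero _) (r0_surjective P (A := A))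
      (q₀ : CotT.relMod P)
    have h0 : r0 P A (jA u₀) = 0 := by rw [hj0, hu₀]; exact q₀.2
    have h1 := hmI _ (hjI u₀) h0
    have hIr : I ≤ Submodule.map (jA.restrictScalars A) ⊤ := fun x hx => by
      obtain ⟨u, hu⟩ := hspan x hx
      exact ⟨u, trivial, hu⟩
    have h2 := Submodule.smul_mono le_rfl (N := I) hIr h1
    rw [← Submodule.map_smul''] at h2
    obtain ⟨y, hy, hy'⟩ := h2
    refine ⟨u₀ - y, by rw [map_sub, sub_eq_zero]; exact hy'.symm, ?_⟩
    rw [Finsupp.mapRange_sub (map_sub _), hu₀, hmr y hy, sub_zero]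
  exact ⟨{
    bl := bl
    g := g
    q_bl := hbl
    surj := hπs
    emb_g := hg
    r0_g := hg0
    span := fun x hx => by
      obtain ⟨u, hu⟩ := hspan x hx
      exact ⟨u, hu⟩
    lift := hexlift
    small := fun u hu hu0 => by
      have h1 := Submodule.mem_map_of_mem (f := εF) (hmF u hu0)
      rw [Submodule.map_smul'', hεF u hu] at h1
      refine Submodule.smul_mono le_rfl ?_ h1
      rintro _ ⟨y, -, rfl⟩
      exact hεF0 y }⟩

variable {P}
variable {p : A' ⟶ A} {t : A'}

/-- A corrected lift of an embedded deformation along a small extension. -/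
theorem exists_flat_lift_psi (ht : RingHom.ker p.toAlgHom = Ideal.span {t}) (hp : Art.IsSmallExt p)
    (htm : ∀ b b' : A', b * t = b' * t ↔ A'.res b = A'.res b')
    {B : Type u} [CommRing B] {f : A →+* B} {q : B →+* B₀} (hR : IsDef A f q) (E : Embedding P f q)
    (G : σ → MvPolynomial ι A') (hG : ∀ s, rp p (G s) = E.g s) (ψ : CotT.L1 P →ₗ[B₀] B₀)
    (hψ : ∀ (u : σ →₀ MvPolynomial ι A') (r : MvPolynomial ι A'),
      lin E.g (u.mapRange (rp p) (_root_.map_zero _)) = 0 → lin G u = C t * r →
      ψ ((1 : B₀) ⊗ₜ[P.toExtension.Ring] (u.mapRange (r0 P A') (_root_.map_zero _))) =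
        algebraMap P.toExtension.Ring B₀ (r0 P A' r)) :
    ∃ (B' : Type u) (_ : CommRing B') (f' : A' →+* B') (π' : B' →+* B),
      f'.Flat ∧ Function.Surjective π' ∧ π'.comp f' = f.comp p.toAlgHom.toRingHom ∧
      RingHom.ker π' = (RingHom.ker p.toAlgHom).map f' ∧
      RingHom.ker (q.comp π') = (maximalIdeal A').map f' := by
  classical
  letI : Algebra A B := f.toAlgebra
  haveI : Module.Flat A B := hR.flat
  haveI := Groth.Agent.TFun.free_of_flat (A := A) B
  have hk : RingHom.ker q = (maximalIdeal A).map f := hR.ker_eq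
  have hqC : ∀ c : A, q (algebraMap A B c) = algebraMap k B₀ (A.res c) := hR.comp
  let ev : P.toExtension.Ring →+* B₀ := algebraMap P.toExtension.Ring B₀
  let π : MvPolynomial ι A →ₐ[A] B := MvPolynomial.aeval E.bl
  have hqπ : ∀ x, q (π x) = ev (r0 P A x) := by
    intro x
    induction x using MvPolynomial.induction_on with
    | C c => rw [r0_C, MvPolynomial.aeval_C, hqC]; exact (ev_C P _).symm
    | add a b ha hb => rw [map_add, map_add, ha, hb, map_add, map_add]
    | mul_X a i ha =>
      rw [map_mul, map_mul, ha, map_mul, map_mul, r0_X, MvPolynomial.aeval_X, E.q_bl]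
      exact congrArg _ (ev_X P i).symm
  have hπs : Function.Surjective π := E.surj
  let g := E.g
  let jA : (σ →₀ MvPolynomial ι A) →ₗ[MvPolynomial ι A] MvPolynomial ι A := lin g
  have hj0 : ∀ u, r0 P A (jA u) = CotT.jmap P (u.mapRange (r0 P A) (_root_.map_zero _)) := fun u =>
    linearCombination_mapRange (r0 P A) E.r0_g u
  have hjI : ∀ u, π (jA u) = 0 := by
    intro u
    have hle : LinearMap.range jA ≤ RingHom.ker π.toRingHom := by
      rw [Finsupp.range_linearCombination]
      exact Submodule.span_le.2 (by rintro _ ⟨s, rfl⟩; exact E.emb_g s)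
    exact hle ⟨u, rfl⟩
  have hspan : ∀ x, π x = 0 → ∃ u, jA u = x := E.span
  have hrps : Function.Surjective (rp (ι := ι) p) := MvPolynomial.map_surjective _ hp.1
  let j' : (σ →₀ MvPolynomial ι A') →ₗ[MvPolynomial ι A'] MvPolynomial ι A' := lin G
  let mp : (σ →₀ MvPolynomial ι A') → (σ →₀ MvPolynomial ι A) := fun u =>
    u.mapRange (rp p) (_root_.map_zero _)
  let m0 : (σ →₀ MvPolynomial ι A') → CotT.relMod P := fun u =>
    u.mapRange (r0 P A') (_root_.map_zero _)
  have hm0 : ∀ u, (mp u).mapRange (r0 P A) (_root_.map_zero _) = m0 u := fun u => by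
    ext s
    simp [mp, m0, r0_rp]
  have hjp : ∀ u, rp p (j' u) = jA (mp u) := fun u => linearCombination_mapRange (rp p) hG u
  -- correct the lifts
  choose Cs hCs using fun s => (P.toExtension.algebraMap_surjective.comp (r0_surjective P (A := A')))
    (ψ ((1 : B₀) ⊗ₜ[P.toExtension.Ring] Finsupp.single s (1 : P.toExtension.Ring)))
  let G' : σ → MvPolynomial ι A' := fun s => G s - C t * Cs s
  let j'' : (σ →₀ MvPolynomial ι A') →ₗ[MvPolynomial ι A'] MvPolynomial ι A' :=
    Finsupp.linearCombination _ G'
  let cl : (σ →₀ MvPolynomial ι A') →ₗ[MvPolynomial ι A'] MvPolynomial ι A' :=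
    Finsupp.linearCombination _ Cs
  have hj'' : ∀ u, j'' u = j' u - C t * cl u := fun u => by
    induction u using Finsupp.induction_linear with
    | zero => simp
    | add a b ha hb => rw [map_add, ha, hb, map_add, map_add, mul_add]; abel
    | single s r => simp [j'', j', cl, G']; ring
  have hcl : ∀ u, ev (r0 P A' (cl u)) = ψ ((1 : B₀) ⊗ₜ[P.toExtension.Ring] m0 u) := fun u => by
    induction u using Finsupp.induction_linear with
    | zero => simp [m0]
    | add a b ha hb =>
      rw [map_add, map_add, map_add, ha, hb, show m0 (a + b) = m0 a + m0 b from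
        Finsupp.mapRange_add (map_add _) _ _, tmul_add, map_add]
    | single s r =>
      rw [Finsupp.linearCombination_single, smul_eq_mul, map_mul, map_mul,
        show m0 (Finsupp.single s r) = r0 P A' r • Finsupp.single s 1 by
          rw [Finsupp.smul_single, smul_eq_mul, mul_one]; exact Finsupp.mapRange_single,
        tmul_smul, ← algebraMap_smul B₀ (r0 P A' r), map_smul, smul_eq_mul]
      exact congrArg _ (hCs s)
  have hG'p : ∀ s, rp p (G' s) = g s := fun s => by
    simp only [g, G', map_sub, map_mul, rp_Ct ht, zero_mul, sub_zero, hG]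
  let K : Ideal (MvPolynomial ι A') := Ideal.span (Set.range G')
  have hK : K = LinearMap.range j'' := (Finsupp.range_linearCombination _).symm
  have hK0 : ∀ x ∈ K, ev (r0 P A' x) = 0 := by
    intro x hx
    rw [hK] at hx
    obtain ⟨u, rfl⟩ := hx
    rw [← r0_rp P p, show rp p (j'' u) = jA (mp u) from linearCombination_mapRange (rp p) hG'p u, hj0]
    exact CotT.algebraMap_jmap P _
  have honto : ∀ f0 : P.toExtension.Ring, ev f0 = 0 → ∃ x ∈ K, r0 P A' x = f0 := by
    intro f0 hf0
    have hf0' : f0 ∈ LinearMap.range (CotT.jmap P) := by rw [CotT.range_jmap]; exact hf0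
    obtain ⟨a, rfl⟩ := hf0'
    obtain ⟨u, rfl⟩ := Finsupp.mapRange_surjective _ (_root_.map_zero _) (r0_surjective P (A := A')) a
    refine ⟨j'' u, hK ▸ ⟨u, rfl⟩, ?_⟩
    rw [← r0_rp P p, show rp p (j'' u) = jA (mp u) from linearCombination_mapRange (rp p) hG'p u, hj0, hm0]
  have hinter : ∀ x ∈ K, rp p x = 0 → ∃ y ∈ K, x = C t * y := by
    intro x hx hx0
    rw [hK] at hx
    obtain ⟨u, rfl⟩ := hx
    have hu : jA (mp u) = 0 := (linearCombination_mapRange (rp p) hG'p u).symm.trans hx0
    obtain ⟨r, hr⟩ := exists_mul_of_rp_eq_zero ht (x := j' u) (by rw [hjp, hu])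
    obtain ⟨y, hy, hy'⟩ := honto (r0 P A' (r - cl u)) (by
      rw [map_sub, map_sub, hcl, sub_eq_zero]
      exact (hψ u r hu hr).symm)
    refine ⟨y, hy, ?_⟩
    rw [hj'', hr, ← mul_sub, (mul_t_eq_iff (P := P) htm _ _).2 hy']
  let B' := MvPolynomial ι A' ⧸ K
  let π'' : MvPolynomial ι A' →+* B := π.toRingHom.comp (rp p)
  let π' : B' →+* B := Ideal.Quotient.lift K π'' fun x hx => by
    rw [hK] at hx
    obtain ⟨u, rfl⟩ := hx
    change π (rp p (j'' u)) = 0
    rw [show rp p (j'' u) = jA (mp u) from linearCombination_mapRange (rp p) hG'p u, hjI]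
  have hπ''s : Function.Surjective π'' := hπs.comp hrps
  have hπ's : Function.Surjective π' := fun b => by
    obtain ⟨x, rfl⟩ := hπ''s b
    exact ⟨Ideal.Quotient.mk K x, rfl⟩
  have hcomp : π'.comp (algebraMap A' B') = f.comp p.toAlgHom.toRingHom := RingHom.ext fun c => by
    change π (rp p (C c)) = f (p c)
    rw [show rp (ι := ι) p (C c) = C (p c) from MvPolynomial.map_C p.toAlgHom.toRingHom c,
      MvPolynomial.aeval_C]
    rfl
  have hkπ : RingHom.ker π' = (RingHom.ker p.toAlgHom).map (algebraMap A' B') := by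
    refine le_antisymm (fun z hz => ?_) (Ideal.map_le_iff_le_comap.2 fun c hc => ?_)
    · obtain ⟨x, rfl⟩ := Ideal.Quotient.mk_surjective z
      obtain ⟨u, hu⟩ := hspan (rp p x) hz
      obtain ⟨u', rfl⟩ := Finsupp.mapRange_surjective _ (_root_.map_zero _) hrps u
      obtain ⟨r, hr⟩ := exists_mul_of_rp_eq_zero ht (x := x - j'' u') (by
        rw [map_sub, show rp p (j'' u') = jA (mp u') from linearCombination_mapRange (rp p) hG'p u',
          sub_eq_zero]
        exact hu.symm)
      have : Ideal.Quotient.mk K x = algebraMap A' B' t * Ideal.Quotient.mk K r := by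
        change _ = Ideal.Quotient.mk K (C t) * _
        rw [← map_mul, Ideal.Quotient.eq, ← hr, sub_sub_cancel]
        exact hK ▸ ⟨u', rfl⟩
      rw [this]
      exact Ideal.mul_mem_right _ _ (Ideal.mem_map_of_mem _ (ht ▸ Ideal.mem_span_singleton_self t))
    · rw [Ideal.mem_comap, RingHom.mem_ker, ← RingHom.comp_apply, hcomp, RingHom.comp_apply,
        show p.toAlgHom.toRingHom c = 0 from hc, _root_.map_zero]
  have hkq : RingHom.ker (q.comp π') = (maximalIdeal A').map (algebraMap A' B') := by
    refine le_antisymm (fun z hz => ?_) (Ideal.map_le_iff_le_comap.2 fun c hc => ?_)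
    · obtain ⟨x, rfl⟩ := Ideal.Quotient.mk_surjective z
      have h0 : ev (r0 P A' x) = 0 := by
        rw [← r0_rp P p, ← hqπ]; exact hz
      obtain ⟨y, hy, hy'⟩ := honto _ h0
      have hxy : x - y ∈ (maximalIdeal A').map (C : A' →+* MvPolynomial ι A') :=
        mem_map_of_r0_eq_zero P (by rw [map_sub, hy', sub_self])
      have h2 := Ideal.mem_map_of_mem (Ideal.Quotient.mk K) hxy
      rw [Ideal.map_map, map_sub, show Ideal.Quotient.mk K y = 0 from
        Ideal.Quotient.eq_zero_iff_mem.2 hy, sub_zero] at h2
      exact h2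
    · rw [Ideal.mem_comap, RingHom.mem_ker, RingHom.comp_apply, ← RingHom.comp_apply π', hcomp,
        RingHom.comp_apply]
      refine (hqC _).trans ?_
      rw [show A.res (p.toAlgHom.toRingHom c) = 0 from
        (Art.res_app p c).trans ((Art.mem_maximalIdeal_iff A' c).1 hc), _root_.map_zero]
  -- flatness
  let bB := Module.Free.chooseBasis A B
  choose s hs using fun i => hπ''s (bB i)
  have hfree : Module.Free A' B' := by
    have hsπ : ∀ i, π' (Ideal.Quotient.mk K (s i)) = bB i := hs
    have hlc : ∀ c, π' (Finsupp.linearCombination A' (fun i => Ideal.Quotient.mk K (s i)) c) =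
        Finsupp.linearCombination A bB (c.mapRange p.toAlgHom (_root_.map_zero _)) := by
      intro c
      induction c using Finsupp.induction_linear with
      | zero => simp
      | add a b ha hb => rw [map_add, map_add, ha, hb, Finsupp.mapRange_add (map_add _), map_add]
      | single i a =>
        rw [Finsupp.linearCombination_single, Finsupp.mapRange_single, Finsupp.linearCombination_single,
          show a • Ideal.Quotient.mk K (s i) = algebraMap A' B' a * Ideal.Quotient.mk K (s i) from
            Algebra.smul_def (A := B') a _, map_mul, hsπ, Algebra.smul_def]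
        exact congrArg (· * _) (RingHom.congr_fun hcomp a)
    refine Module.Free.of_basis (Module.Basis.mk (v := fun i => Ideal.Quotient.mk K (s i)) ?_ ?_)
    · rw [linearIndependent_iff]
      intro c hc
      have h1 : c.mapRange p.toAlgHom (_root_.map_zero _) = 0 :=
        linearIndependent_iff.1 bB.linearIndependent _ (by rw [← hlc, hc, _root_.map_zero])
      have h2 : ∀ i, ∃ a, c i = a * t := fun i => by
        have : c i ∈ RingHom.ker p.toAlgHom := by
          have h := DFunLike.congr_fun h1 i
          rw [Finsupp.mapRange_apply] at h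
          exact h
        rw [ht] at this
        obtain ⟨a, ha⟩ := Ideal.mem_span_singleton'.1 this
        exact ⟨a, ha.symm⟩
      choose a ha using h2
      let a' : Module.Free.ChooseBasisIndex A B →₀ A' :=
        Finsupp.onFinset c.support (fun i => if i ∈ c.support then a i else 0)
          (fun i hi => by by_contra hn; simp [hn] at hi)
      have hca : c = t • a' := by
        ext i
        rw [Finsupp.smul_apply, smul_eq_mul, Finsupp.onFinset_apply]
        split_ifs with hi
        · rw [ha i, mul_comm]
        · rw [mul_zero]; exact Finsupp.notMem_support_iff.1 hi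
      let x := Finsupp.linearCombination A' s a'
      have hx : Ideal.Quotient.mk K (C t * x) = 0 := by
        rw [← hc, hca, map_smul, map_mul,
          show Finsupp.linearCombination A' (fun i => Ideal.Quotient.mk K (s i)) a' =
            Ideal.Quotient.mk K x from
            ((Finsupp.apply_linearCombination A' (Ideal.Quotient.mkₐ A' K).toLinearMap s a')).symm,
          show t • Ideal.Quotient.mk K x = algebraMap A' B' t * Ideal.Quotient.mk K x from
            Algebra.smul_def (A := B') t _]
        rfl
      obtain ⟨y, hy, hxy⟩ := hinter _ (Ideal.Quotient.eq_zero_iff_mem.1 hx)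
        (by rw [map_mul, rp_Ct ht, zero_mul])
      have h0 : q (π' (Ideal.Quotient.mk K x)) = 0 := by
        change q (π (rp p x)) = 0
        rw [hqπ, r0_rp, (mul_t_eq_iff (P := P) htm x y).1 hxy, hK0 y hy]
      have hmem : π' (Ideal.Quotient.mk K x) ∈ (maximalIdeal A).map f := hk ▸ h0
      have hcoord : ∀ z ∈ (maximalIdeal A).map f, ∀ i, bB.repr z i ∈ maximalIdeal A := by
        intro z hz
        have hz' : z ∈ maximalIdeal A • (⊤ : Submodule A B) := by
          rw [Ideal.smul_top_eq_map]; exact hz
        induction hz' using Submodule.smul_induction_on' with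
        | smul c hc z _ =>
          intro i
          rw [map_smul, Finsupp.smul_apply, smul_eq_mul]
          exact Ideal.mul_mem_right _ _ hc
        | add a ha b hb iha ihb =>
          intro i
          rw [map_add, Finsupp.add_apply]
          rw [Ideal.smul_top_eq_map] at ha hb
          exact add_mem (iha ha i) (ihb hb i)
      rw [show Ideal.Quotient.mk K x =
          Finsupp.linearCombination A' (fun i => Ideal.Quotient.mk K (s i)) a' from
          Finsupp.apply_linearCombination A' (Ideal.Quotient.mkₐ A' K).toLinearMap s a', hlc] at hmem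
      rw [hca]
      ext i
      have h3 := hcoord _ hmem i
      rw [bB.repr_linearCombination, Finsupp.mapRange_apply, Art.mem_maximalIdeal_iff] at h3
      rw [Finsupp.smul_apply, Finsupp.zero_apply, smul_eq_mul, mul_comm, ← zero_mul t, htm]
      rw [_root_.map_zero, ← Art.res_app p]
      exact h3
    · refine le_of_le_sup_smul fun z _ => ?_
      obtain ⟨c, hc⟩ := Finsupp.mapRange_surjective _ (_root_.map_zero p.toAlgHom) hp.1 (bB.repr (π' z))
      rw [← add_sub_cancel (Finsupp.linearCombination A' (fun i => Ideal.Quotient.mk K (s i)) c) z]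
      refine Submodule.add_mem_sup (Finsupp.mem_span_range_iff_exists_finsupp.2
        ⟨c, (Finsupp.linearCombination_apply A' c).symm⟩) ?_
      rw [Ideal.smul_top_eq_map]
      refine Ideal.map_mono (Groth.Agent.ArtFunLib.ker_le_maximalIdeal p) ?_
      rw [← hkπ, RingHom.mem_ker, map_sub, hlc, hc, bB.linearCombination_repr, sub_self]
  exact ⟨B', inferInstance, algebraMap A' B', π', RingHom.flat_algebraMap_iff.mpr inferInstance,
    hπ's, hcomp, hkπ, hkq⟩

end Groth.Agent.DefAffHull
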