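import Groth.Agent.TFun.Artinian
import Groth.Agent.ArtFunLib.Basic
import Mathlib.RingTheory.RingHom.Flat

/-!
# Deformations of an algebra over Artinian rings: bases and fibre products
-/

set_option autoImplicit false
set_option linter.unusedSectionVars false
universe u

open IsLocalRing ArtFun

namespace Groth.Agent.DefAffHull

variable {Λ k : Type u} [CommRing Λ] [Field k] [Algebra Λ k]
variable {B₀ : Type u} [CommRing B₀] [Algebra k B₀]

/-- `R` is a deformation of `B₀` over `A`. -/
structure IsDef (A : Art Λ k) {R : Type u} [CommRing R] (f : A →+* R) (q : R →+* B₀) : Prop where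
  comp : ∀ a : A, q (f a) = algebraMap k B₀ (A.res a)
  surj : Function.Surjective q
  ker_le : RingHom.ker q ≤ (maximalIdeal A).map f
  flat : f.Flat

section lc

variable {A A' R R' : Type u} [CommRing A] [CommRing A'] [CommRing R] [CommRing R'] {ι : Type u}

/-- Linear combinations along a ring map. -/
noncomputable def lc (f : A →+* R) (v : ι → R) : (ι →₀ A) →+ R :=
  Finsupp.liftAddHom fun i => (AddMonoidHom.mulRight (v i)).comp f.toAddMonoidHom

theorem lc_single (f : A →+* R) (v : ι → R) (i : ι) (a : A) :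
    lc f v (Finsupp.single i a) = f a * v i := by
  simp [lc]

theorem map_lc (f : A →+* R) (f' : A' →+* R') (g : A →+* A') (h : R →+* R')
    (hh : ∀ a, h (f a) = f' (g a)) (v : ι → R) (c : ι →₀ A) :
    h (lc f v c) = lc f' (fun i => h (v i)) (c.mapRange g (map_zero g)) := by
  induction c using Finsupp.induction_linear with
  | zero => simp
  | add a b ha hb =>
    rw [Finsupp.mapRange_add (map_add g), map_add, map_add, map_add, ha, hb]
  | single i a => rw [Finsupp.mapRange_single, lc_single, lc_single, map_mul, hh]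

theorem flat_of_bijective_lc {f : A →+* R} {v : ι → R} (h : Function.Bijective (lc f v)) : f.Flat := by
  letI := f.toAlgebra
  let L : (ι →₀ A) →ₗ[A] R := Finsupp.linearCombination A v
  have hL : ∀ c, L c = lc f v c := fun c => by
    induction c using Finsupp.induction_linear with
    | zero => simp
    | add a b ha hb => rw [map_add, map_add, ha, hb]
    | single i a => rw [lc_single]; exact Finsupp.linearCombination_single A a i
  have hb : Function.Bijective L := by
    rw [show ⇑L = ⇑(lc f v) from funext hL]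
    exact h
  exact Module.Flat.of_linearEquiv (LinearEquiv.ofBijective L hb).symm

end lc

variable {A A' : Art Λ k} {R R' : Type u} [CommRing R] [CommRing R']
variable {f : A →+* R} {q : R →+* B₀} {f' : A' →+* R'} {q' : R' →+* B₀}
variable {ι : Type u}

theorem q_lc (hc : ∀ a : A, q (f a) = algebraMap k B₀ (A.res a)) (e : Module.Basis ι k B₀)
    {v : ι → R} (hv : ∀ i, q (v i) = e i) (c : ι →₀ A) :
    q (lc f v c) = Finsupp.linearCombination k e (c.mapRange A.res (map_zero A.res)) := by
  induction c using Finsupp.induction_linear with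
  | zero => simp
  | add a b ha hb =>
    rw [Finsupp.mapRange_add (map_add A.res), map_add, map_add, map_add, ha, hb]
  | single i a =>
    rw [Finsupp.mapRange_single, lc_single, map_mul, hc, hv, Finsupp.linearCombination_single,
      Algebra.smul_def]

theorem IsDef.of_bijective (hc : ∀ a : A, q (f a) = algebraMap k B₀ (A.res a)) (e : Module.Basis ι k B₀)
    {v : ι → R} (hv : ∀ i, q (v i) = e i) (h : Function.Bijective (lc f v)) : IsDef A f q := by
  refine ⟨hc, fun b => ?_, fun r hr => ?_, flat_of_bijective_lc h⟩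
  · obtain ⟨c, hb⟩ := Finsupp.mapRange_surjective A.res (map_zero A.res) A.res_surjective (e.repr b)
    exact ⟨lc f v c, by rw [q_lc hc e hv, hb, e.linearCombination_repr]⟩
  · obtain ⟨c, rfl⟩ := h.2 r
    rw [RingHom.mem_ker, q_lc hc e hv] at hr
    have h0 : c.mapRange A.res (map_zero A.res) = 0 :=
      e.linearIndependent (hr.trans (map_zero _).symm)
    rw [lc, Finsupp.liftAddHom_apply]
    refine Ideal.sum_mem _ fun i _ => ?_
    exact Ideal.mul_mem_right _ _ (Ideal.mem_map_of_mem f
      ((Art.mem_maximalIdeal_iff A _).2 (DFunLike.congr_fun h0 i)))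

theorem IsDef.bijective_lc (h : IsDef A f q) (e : Module.Basis ι k B₀) {v : ι → R}
    (hv : ∀ i, q (v i) = e i) : Function.Bijective (lc f v) := by
  letI := f.toAlgebra
  haveI : Module.Flat A R := h.flat
  haveI := Groth.Agent.TFun.free_of_flat (A := A) R
  let L : (ι →₀ A) →ₗ[A] R := Finsupp.linearCombination A v
  have hL : ∀ c, L c = lc f v c := fun c => by
    induction c using Finsupp.induction_linear with
    | zero => simp
    | add a b ha hb => rw [map_add, map_add, ha, hb]
    | single i a => rw [lc_single]; exact Finsupp.linearCombination_single A a i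
  rw [show ⇑(lc f v) = ⇑L from funext fun c => (hL c).symm]
  have hm : ∀ r : R, r ∈ (maximalIdeal A).map f → r ∈ maximalIdeal A • (⊤ : Submodule A R) := by
    intro r hr
    rw [Ideal.smul_top_eq_map]
    exact hr
  have hsurj : Function.Surjective L := by
    rw [← LinearMap.range_eq_top]
    refine Groth.Agent.TFun.eq_top_of_sup_maximalIdeal_smul (top_le_iff.1 fun r _ => ?_)
    obtain ⟨c, hc⟩ := Finsupp.mapRange_surjective A.res (map_zero A.res) A.res_surjective (e.repr (q r))
    rw [← add_sub_cancel (L c) r]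
    refine Submodule.add_mem_sup ⟨c, rfl⟩ (hm _ (h.ker_le ?_))
    rw [RingHom.mem_ker, map_sub, hL, q_lc h.comp e hv, hc, e.linearCombination_repr, sub_self]
  refine ⟨?_, hsurj⟩
  obtain ⟨s, hs⟩ := Module.projective_lifting_property L LinearMap.id hsurj
  rw [← LinearMap.ker_eq_bot]
  have hle : LinearMap.ker L ≤ maximalIdeal A • LinearMap.ker L := by
    intro c hc
    have hc' : c ∈ maximalIdeal A • (⊤ : Submodule A (ι →₀ A)) := by
      have h1 : q (L c) = 0 := by rw [show L c = 0 from hc, map_zero]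
      rw [hL, q_lc h.comp e hv] at h1
      have h2 : c.mapRange A.res (map_zero A.res) = 0 := e.linearIndependent (h1.trans (map_zero _).symm)
      rw [← c.sum_single]
      refine Submodule.sum_mem _ fun i _ => ?_
      rw [← mul_one (c i), ← smul_eq_mul, ← Finsupp.smul_single]
      exact Submodule.smul_mem_smul ((Art.mem_maximalIdeal_iff A _).2 (DFunLike.congr_fun h2 i)) trivial
    have h2 : c = (LinearMap.id - s.comp L : (ι →₀ A) →ₗ[A] ι →₀ A) c := by
      rw [LinearMap.sub_apply, LinearMap.comp_apply, show L c = 0 from hc, map_zero, sub_zero,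
        LinearMap.id_apply]
    rw [h2]
    have h3 := Submodule.mem_map_of_mem (f := (LinearMap.id - s.comp L : (ι →₀ A) →ₗ[A] ι →₀ A)) hc'
    rw [Submodule.map_smul''] at h3
    refine Submodule.smul_mono le_rfl ?_ h3
    rintro _ ⟨d, -, rfl⟩
    have h4 : L (s (L d)) = L d := LinearMap.congr_fun hs (L d)
    rw [LinearMap.mem_ker, LinearMap.sub_apply, map_sub, LinearMap.comp_apply, h4, LinearMap.id_apply,
      sub_self]
  obtain ⟨n, hn⟩ := Groth.Agent.ArtFunLib.isNilpotent_maximalIdeal A
  have key : ∀ i : ℕ, LinearMap.ker L ≤ maximalIdeal A ^ i • LinearMap.ker L := by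
    intro i
    induction i with
    | zero => simp
    | succ i ih =>
      refine ih.trans ?_
      rw [pow_succ, Submodule.mul_smul]
      exact Submodule.smul_mono le_rfl hle
  exact le_bot_iff.1 ((key n).trans (by rw [hn, Submodule.bot_smul]))

theorem IsDef.bijective_hom (h : IsDef A f q) {R₂ : Type u} [CommRing R₂] {f₂ : A →+* R₂}
    {q₂ : R₂ →+* B₀} (h₂ : IsDef A f₂ q₂) (φ : R →+* R₂) (hf : ∀ a, φ (f a) = f₂ a)
    (hq : ∀ r, q₂ (φ r) = q r) : Function.Bijective φ := by
  let e := Module.Free.chooseBasis k B₀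
  choose v hv using fun i => h.surj (e i)
  have h1 := h.bijective_lc e hv
  have h2 := h₂.bijective_lc e (v := fun i => φ (v i)) fun i => (hq _).trans (hv i)
  have hcomp : ∀ c, φ (lc f v c) = lc f₂ (fun i => φ (v i)) c := fun c => by
    rw [map_lc f f₂ (RingHom.id A) φ hf]
    congr 1
    ext i
    simp
  constructor
  · intro a b hab
    obtain ⟨c, rfl⟩ := h1.2 a
    obtain ⟨d, rfl⟩ := h1.2 b
    rw [hcomp, hcomp] at hab
    rw [h2.1 hab]
  · intro r
    obtain ⟨c, rfl⟩ := h2.2 r
    exact ⟨lc f v c, hcomp c⟩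

section FibreProduct

variable {B A'' : Art Λ k} {p' : B ⟶ A'} {p'' : B ⟶ A''} {g' : A' ⟶ A} {g'' : A'' ⟶ A}
variable {R'' : Type u} [CommRing R''] {f'' : A'' →+* R''} {q'' : R'' →+* B₀}

/-- A fibre product of deformations along a fibre product with a surjective leg is a deformation, with the compatibility of its projections. -/
theorem exists_fibre_product_comm (hP : Art.IsFibreProd p' p'' g' g'') (hg : Function.Surjective g'')
    (hR : IsDef A f q) (hR' : IsDef A' f' q') (hR'' : IsDef A'' f'' q'')
    (a : R' →+* R) (b : R'' →+* R) (ha : ∀ x, a (f' x) = f (g' x)) (hb : ∀ x, b (f'' x) = f (g'' x))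
    (haq : ∀ r, q (a r) = q' r) (hbq : ∀ r, q (b r) = q'' r) :
    ∃ (P : Type u) (_ : CommRing P) (F : B →+* P) (Q : P →+* B₀) (π' : P →+* R') (π'' : P →+* R''),
      IsDef B F Q ∧ (∀ x, π' (F x) = f' (p' x)) ∧ (∀ x, π'' (F x) = f'' (p'' x)) ∧
      (∀ r, q' (π' r) = Q r) ∧ (∀ r, q'' (π'' r) = Q r) ∧
      (∀ r' r'', a r' = b r'' → ∃ r, π' r = r' ∧ π'' r = r'') ∧
      (∀ r s, π' r = π' s → π'' r = π'' s → r = s) ∧ (∀ r, a (π' r) = b (π'' r)) := by
  let e := Module.Free.chooseBasis k B₀
  choose v' hv' using fun i => hR'.surj (e i)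
  let v := fun i => a (v' i)
  have hv : ∀ i, q (v i) = e i := fun i => (haq _).trans (hv' i)
  have hbs : Function.Surjective b := by
    choose w hw using fun i => hR''.surj (e i)
    intro r
    obtain ⟨c, rfl⟩ := (hR.bijective_lc e (v := fun i => b (w i)) fun i => (hbq _).trans (hw i)).2 r
    obtain ⟨d, rfl⟩ := Finsupp.mapRange_surjective g''.toAlgHom (map_zero _) hg c
    exact ⟨lc f'' w d, map_lc f'' f g''.toAlgHom.toRingHom b hb w d⟩
  choose v'' hv'' using fun i => hbs (v i)
  have hvq'' : ∀ i, q'' (v'' i) = e i := fun i => by rw [← hbq, hv'', hv]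
  let P := RingHom.eqLocus (a.comp (RingHom.fst R' R'')) (b.comp (RingHom.snd R' R''))
  let π' : P →+* R' := (RingHom.fst R' R'').comp P.subtype
  let π'' : P →+* R'' := (RingHom.snd R' R'').comp P.subtype
  let F : B →+* P := ((f'.comp p'.toAlgHom.toRingHom).prod (f''.comp p''.toAlgHom.toRingHom)).codRestrict P
    fun x => show a (f' (p' x)) = b (f'' (p'' x)) by rw [ha, hb, hP.w_apply]
  have hsame : ∀ r : P, q' (π' r) = q'' (π'' r) := fun r => by
    rw [← haq, ← hbq]
    exact congrArg q r.2
  let V : _ → P := fun i => ⟨(v' i, v'' i), (hv'' i).symm⟩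
  have hV' : ∀ c, π' (lc F V c) = lc f' v' (c.mapRange p'.toAlgHom (map_zero _)) := fun c =>
    map_lc F f' p'.toAlgHom.toRingHom π' (fun _ => rfl) V c
  have hV'' : ∀ c, π'' (lc F V c) = lc f'' v'' (c.mapRange p''.toAlgHom (map_zero _)) := fun c =>
    map_lc F f'' p''.toAlgHom.toRingHom π'' (fun _ => rfl) V c
  have hinj : ∀ r s : P, π' r = π' s → π'' r = π'' s → r = s := fun r s h1 h2 =>
    Subtype.ext (Prod.ext h1 h2)
  refine ⟨P, inferInstance, F, q'.comp π', π', π'', IsDef.of_bijective (fun x => ?_) e (v := V)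
      (fun i => hv' i) ⟨?_, ?_⟩, fun x => rfl, fun x => rfl, fun r => rfl, fun r => (hsame r).symm,
    fun r' r'' h => ⟨⟨(r', r''), h⟩, rfl, rfl⟩, hinj, fun r => r.2⟩
  · change q' (f' (p' x)) = _
    rw [hR'.comp, Art.res_app]
  · intro c d hcd
    refine Finsupp.ext fun i => hP.inj _ _ ?_ ?_
    · have h1 := congrArg π' hcd
      rw [hV', hV'] at h1
      exact DFunLike.congr_fun ((hR'.bijective_lc e hv').1 h1) i
    · have h1 := congrArg π'' hcd
      rw [hV'', hV''] at h1
      exact DFunLike.congr_fun ((hR''.bijective_lc e hvq'').1 h1) i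
  · intro r
    obtain ⟨c', hc'⟩ := (hR'.bijective_lc e hv').2 (π' r)
    obtain ⟨c'', hc''⟩ := (hR''.bijective_lc e hvq'').2 (π'' r)
    have h1 : a (π' r) = b (π'' r) := r.2
    rw [← hc', ← hc'', map_lc f' f g'.toAlgHom.toRingHom a ha, map_lc f'' f g''.toAlgHom.toRingHom b hb,
      show (fun i => b (v'' i)) = v from funext hv''] at h1
    have h2 := (hR.bijective_lc e hv).1 h1
    have h3 : ∀ i, g' (c' i) = g'' (c'' i) := fun i => DFunLike.congr_fun h2 i
    choose w hw' hw'' using fun i => hP.surj (c' i) (c'' i) (h3 i)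
    classical
    let c : _ →₀ B := Finsupp.onFinset (c'.support ∪ c''.support) w fun i hi => by
      by_contra hn
      rw [Finset.mem_union, not_or, Finsupp.notMem_support_iff, Finsupp.notMem_support_iff] at hn
      exact hi (hP.inj _ _ ((hw' i).trans (hn.1.trans (map_zero p'.toAlgHom).symm))
        ((hw'' i).trans (hn.2.trans (map_zero p''.toAlgHom).symm)))
    refine ⟨c, hinj _ _ ?_ ?_⟩
    · rw [hV', ← hc']
      congr 1
      exact Finsupp.ext hw'
    · rw [hV'', ← hc'']
      congr 1
      exact Finsupp.ext hw''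

/-- A fibre product of deformations along a fibre product with a surjective leg is a deformation. -/
theorem exists_fibre_product (hP : Art.IsFibreProd p' p'' g' g'') (hg : Function.Surjective g'')
    (hR : IsDef A f q) (hR' : IsDef A' f' q') (hR'' : IsDef A'' f'' q'')
    (a : R' →+* R) (b : R'' →+* R) (ha : ∀ x, a (f' x) = f (g' x)) (hb : ∀ x, b (f'' x) = f (g'' x))
    (haq : ∀ r, q (a r) = q' r) (hbq : ∀ r, q (b r) = q'' r) :
    ∃ (P : Type u) (_ : CommRing P) (F : B →+* P) (Q : P →+* B₀) (π' : P →+* R') (π'' : P →+* R''),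
      IsDef B F Q ∧ (∀ x, π' (F x) = f' (p' x)) ∧ (∀ x, π'' (F x) = f'' (p'' x)) ∧
      (∀ r, q' (π' r) = Q r) ∧ (∀ r, q'' (π'' r) = Q r) ∧
      (∀ r' r'', a r' = b r'' → ∃ r, π' r = r' ∧ π'' r = r'') ∧
      (∀ r s, π' r = π' s → π'' r = π'' s → r = s) := by
  obtain ⟨P, hc, F, Q, π', π'', h1, h2, h3, h4, h5, h6, h7, -⟩ :=
    exists_fibre_product_comm hP hg hR hR' hR'' a b ha hb haq hbq
  exact ⟨P, hc, F, Q, π', π'', h1, h2, h3, h4, h5, h6, h7⟩

end FibreProduct

end Groth.Agent.DefAffHull
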