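import Groth.Agent.DefAffHull.Obstruction
import Groth.Agent.DefAffHull.HullDim

/-!
# Obstructions of semismall extensions in `T²`
-/

set_option autoImplicit false
set_option backward.isDefEq.respectTransparency false
set_option linter.unusedSectionVars false
set_option maxHeartbeats 500000
universe u

open CategoryTheory AlgebraicGeometry ArtFun ArtFun.Art IsLocalRing TensorProduct MvPolynomial
open Groth.Agent.RelLift

namespace Groth.Agent.DefAffHull

variable {k : Type u} [Field k]
variable {B₀ : Type u} [CommRing B₀] [Algebra k B₀] {ι σ : Type u}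
variable (P : Algebra.Presentation k B₀ ι σ)
variable {C' C : Art k k}

theorem coeff_sum_monomial (L : C' →ₗ[k] k) (x : MvPolynomial ι C') (n : ι →₀ ℕ) :
    coeff n (∑ m ∈ x.support, (monomial m (L (coeff m x)) : MvPolynomial ι k)) = L (coeff n x) := by
  classical
  simp only [MvPolynomial.coeff_sum, coeff_monomial, Finset.sum_ite_eq']
  split_ifs with h
  · rfl
  · rw [MvPolynomial.notMem_support_iff.1 h, _root_.map_zero]

/-- A linear form applied to the coefficients. -/
noncomputable def coefL (L : C' →ₗ[k] k) : MvPolynomial ι C' →+ P.toExtension.Ring where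
  toFun x := ∑ m ∈ x.support, (monomial m (L (coeff m x)) : MvPolynomial ι k)
  map_zero' := by rw [MvPolynomial.support_zero, Finset.sum_empty]
  map_add' x y := MvPolynomial.ext (R := k) _ _ fun n => by
    refine Eq.trans ?_ (MvPolynomial.coeff_add n _ _).symm
    rw [coeff_sum_monomial, coeff_sum_monomial, coeff_sum_monomial, coeff_add, map_add]

theorem coeff_coefL (L : C' →ₗ[k] k) (x : MvPolynomial ι C') (n : ι →₀ ℕ) :
    coeff (R := k) n (coefL P L x) = L (coeff n x) := coeff_sum_monomial L x n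

variable {p : C' ⟶ C}

/-- The kernel of a semismall extension is a vector space. -/
theorem mul_eq_res_smul (hp : IsSemismallExt p) {v : C'} (hv : p v = 0) (c : C') :
    c * v = C'.res c • v := by
  have h1 : c - algebraMap k C' (C'.res c) ∈ maximalIdeal C' :=
    (Art.mem_maximalIdeal_iff C' _).2 (by rw [map_sub, AlgHom.commutes]; exact sub_self _)
  have h2 := Ideal.mem_bot.1 (hp.2 ▸ Ideal.mul_mem_mul h1 (show v ∈ RingHom.ker p.toAlgHom from hv))
  rw [sub_mul, sub_eq_zero] at h2
  rw [h2, Algebra.smul_def]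

theorem coeff_mem_of_rp {x : MvPolynomial ι C'} (hx : rp p x = 0) (n : ι →₀ ℕ) : p (coeff n x) = 0 :=
  (MvPolynomial.coeff_map p.toAlgHom.toRingHom x n).symm.trans
    ((congrArg (coeff n) hx).trans (coeff_zero n))

theorem coefL_mul (hp : IsSemismallExt p) (L : C' →ₗ[k] k) {x : MvPolynomial ι C'} (hx : rp p x = 0)
    (y : MvPolynomial ι C') : coefL P L (x * y) = coefL P L x * r0 P C' y := by
  classical
  refine MvPolynomial.ext (R := k) _ _ fun n => ?_
  refine (coeff_coefL P L _ n).trans ?_
  rw [coeff_mul, map_sum]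
  refine Eq.trans ?_ (MvPolynomial.coeff_mul _ _ n).symm
  refine Finset.sum_congr rfl fun ab _ => ?_
  rw [coeff_coefL, mul_comm (coeff ab.1 x), mul_eq_res_smul hp (coeff_mem_of_rp hx ab.1), map_smul,
    smul_eq_mul, mul_comm]
  exact congrArg _ (MvPolynomial.coeff_map C'.res.toRingHom y ab.2).symm

theorem coefL_add (L L' : C' →ₗ[k] k) (x : MvPolynomial ι C') :
    coefL P (L + L') x = coefL P L x + coefL P L' x :=
  MvPolynomial.ext (R := k) _ _ fun n => by
    refine Eq.trans ?_ (MvPolynomial.coeff_add n _ _).symm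
    rw [coeff_coefL, coeff_coefL, coeff_coefL]
    rfl

theorem coefL_smul (c : k) (L : C' →ₗ[k] k) (x : MvPolynomial ι C') :
    coefL P (c • L) x = c • coefL P L x :=
  MvPolynomial.ext (R := k) _ _ fun n => by
    refine Eq.trans ?_ (MvPolynomial.coeff_smul n c _).symm
    rw [coeff_coefL, coeff_coefL]
    rfl

/-- A linear form on the coefficients, followed by evaluation. -/
noncomputable def Lev (L : C' →ₗ[k] k) : MvPolynomial ι C' →+ B₀ :=
  (algebraMap P.toExtension.Ring B₀).toAddMonoidHom.comp (coefL P L)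

theorem Lev_apply (L : C' →ₗ[k] k) (x : MvPolynomial ι C') :
    Lev P L x = algebraMap P.toExtension.Ring B₀ (coefL P L x) := rfl

theorem Lev_mul (hp : IsSemismallExt p) (L : C' →ₗ[k] k) {x : MvPolynomial ι C'} (hx : rp p x = 0)
    (y : MvPolynomial ι C') : Lev P L (x * y) = Lev P L x * algebraMap P.toExtension.Ring B₀ (r0 P C' y) := by
  rw [Lev_apply, coefL_mul P hp L hx, map_mul]
  rfl

/-- Deformations of an affine algebra have a linear obstruction theory in `T²`. -/
theorem linearObs :
    LinearObs (defFunctor (Λ := k) (Spec (CommRingCat.of B₀)) (str k B₀)) (CotT.T2 P B₀) := by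
  classical
  intro C' C p hp u
  obtain ⟨R, iR, f, q, hR, rfl⟩ := exists_isDef_cl u
  obtain ⟨E⟩ := exists_embedding P hR
  have hrps : Function.Surjective (rp (ι := ι) p) := MvPolynomial.map_surjective _ hp.1
  choose G hG using fun s => hrps (E.g s)
  let ev : P.toExtension.Ring →+* B₀ := algebraMap P.toExtension.Ring B₀
  let mp : (σ →₀ MvPolynomial ι C') → (σ →₀ MvPolynomial ι C) := fun u =>
    u.mapRange (rp p) (_root_.map_zero _)
  let m0 : (σ →₀ MvPolynomial ι C') → CotT.relMod P := fun u =>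
    u.mapRange (r0 P C') (_root_.map_zero _)
  have hjp : ∀ u, rp p (lin G u) = lin E.g (mp u) := fun u => linearCombination_mapRange (rp p) hG u
  have hG0 : ∀ s, r0 P C' (G s) = CotT.rel P s := fun s => by rw [← r0_rp P p, hG, E.r0_g]
  have hj0 : ∀ u, r0 P C' (lin G u) = CotT.jmap P (m0 u) := fun u =>
    linearCombination_mapRange (r0 P C') hG0 u
  let W : Submodule (MvPolynomial ι C') (σ →₀ MvPolynomial ι C') :=
    Submodule.comap (lin G) (RingHom.ker (rp (ι := ι) p))
  have hW : ∀ u, u ∈ W ↔ lin E.g (mp u) = 0 := fun u => by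
    rw [← hjp]
    exact Iff.rfl
  have hsm : ∀ (L : C' →ₗ[k] k) (r : MvPolynomial ι C') u, u ∈ W →
      Lev P L (lin G (r • u)) = ev (r0 P C' r) * Lev P L (lin G u) := fun L r u hu => by
    rw [map_smul, smul_eq_mul, mul_comm r, Lev_mul P hp L hu, mul_comm]
  have hzero : ∀ u ∈ W, m0 u = 0 → ∀ L, Lev P L (lin G u) = 0 := by
    intro u hu hu0
    have h0 : (mp u).mapRange (r0 P C) (_root_.map_zero _) = 0 := by
      rw [← hu0]
      ext s
      simp [mp, m0, r0_rp]
    have key : ∀ w ∈ maximalIdeal C • (LinearMap.ker (lin E.g)).restrictScalars C,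
        ∃ v ∈ W, mp v = w ∧ ∀ L, Lev P L (lin G v) = 0 := by
      intro w hw
      induction hw using Submodule.smul_induction_on' with
      | smul c hc y hy =>
        obtain ⟨c', rfl⟩ := hp.1 c
        obtain ⟨v, rfl⟩ := Finsupp.mapRange_surjective _ (_root_.map_zero _) hrps y
        have hv : v ∈ W := (hW v).2 hy
        refine ⟨(MvPolynomial.C c' : MvPolynomial ι C') • v, W.smul_mem _ hv, ?_, fun L => ?_⟩
        · ext s
          simp only [mp, Finsupp.mapRange_apply, Finsupp.smul_apply, smul_eq_mul, map_mul]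
          rw [show rp (ι := ι) p (MvPolynomial.C c') = MvPolynomial.C (p c') from
            MvPolynomial.map_C p.toAlgHom.toRingHom c', MvPolynomial.smul_eq_C_mul]
        · rw [hsm L _ _ hv, r0_C,
            show C'.res c' = 0 from (Art.res_app p c').symm.trans ((Art.mem_maximalIdeal_iff C _).1 hc),
            _root_.map_zero, _root_.map_zero, zero_mul]
      | add a _ b _ ha hb =>
        obtain ⟨va, h1, rfl, h2⟩ := ha
        obtain ⟨vb, h3, rfl, h4⟩ := hb
        exact ⟨va + vb, add_mem h1 h3, Finsupp.mapRange_add (map_add _) _ _, fun L => by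
          rw [map_add, map_add, h2, h4, add_zero]⟩
    obtain ⟨v, hv, hvu, hvL⟩ := key _ (E.small _ ((hW u).1 hu) h0)
    intro L
    rw [← sub_add_cancel u v, map_add, map_add, hvL, add_zero, Finsupp.linearCombination_apply,
      map_finsuppSum]
    refine Finset.sum_eq_zero fun s _ => ?_
    change Lev P L ((u - v) s • G s) = 0
    have hds : rp p ((u - v) s) = 0 := by
      rw [Finsupp.sub_apply, map_sub, sub_eq_zero]
      exact (DFunLike.congr_fun hvu s).symm
    rw [smul_eq_mul, Lev_mul P hp L hds, hG0, CotT.algebraMap_rel, mul_zero]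
  have hlift : ∀ q₀ : CotT.relKer P, ∃ u ∈ W, m0 u = (q₀ : CotT.relMod P) := fun q₀ => by
    obtain ⟨w, hw, hw0⟩ := E.lift q₀
    obtain ⟨u, rfl⟩ := Finsupp.mapRange_surjective _ (_root_.map_zero _) hrps w
    refine ⟨u, (hW u).2 hw, Eq.trans ?_ hw0⟩
    ext s
    simp [m0, r0_rp]
  choose w hwW hw0 using hlift
  have hind : ∀ (L : C' →ₗ[k] k) u (q₀ : CotT.relKer P), u ∈ W → m0 u = (q₀ : CotT.relMod P) →
      Lev P L (lin G u) = Lev P L (lin G (w q₀)) := fun L u q₀ hu hu0 => by
    have h := hzero (u - w q₀) (sub_mem hu (hwW q₀)) (by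
      change Finsupp.mapRange _ _ (u - w q₀) = 0
      rw [Finsupp.mapRange_sub (map_sub _), sub_eq_zero]
      exact hu0.trans (hw0 q₀).symm) L
    rwa [map_sub, map_sub, sub_eq_zero] at h
  let obL : (C' →ₗ[k] k) → (CotT.relKer P →ₗ[P.toExtension.Ring] B₀) := fun L =>
    { toFun := fun q₀ => Lev P L (lin G (w q₀))
      map_add' := fun a b => by
        rw [← hind L (w a + w b) (a + b) (add_mem (hwW a) (hwW b))
          (by rw [Submodule.coe_add, ← hw0 a, ← hw0 b]; exact Finsupp.mapRange_add (map_add _) _ _),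
          map_add, map_add]
      map_smul' := fun r a => by
        obtain ⟨r', rfl⟩ := r0_surjective P (A := C') r
        rw [RingHom.id_apply, ← hind L (r' • w a) (r0 P C' r' • a) (W.smul_mem _ (hwW a))
          (by rw [Submodule.coe_smul, ← hw0 a]; exact mapRange_smul_ringHom _ _ _),
          hsm L r' _ (hwW a), Algebra.smul_def] }
  have hobL : ∀ L q₀, obL L q₀ = Lev P L (lin G (w q₀)) := fun _ _ => rfl
  have hgen : ∀ L (a b : CotT.relMod P) (h : CotT.jmap P a • b - CotT.jmap P b • a ∈ CotT.relKer P),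
      obL L ⟨_, h⟩ = 0 := by
    intro L a b h
    obtain ⟨a', rfl⟩ := Finsupp.mapRange_surjective _ (_root_.map_zero _) (r0_surjective P (A := C')) a
    obtain ⟨b', rfl⟩ := Finsupp.mapRange_surjective _ (_root_.map_zero _) (r0_surjective P (A := C')) b
    let u := lin G a' • b' - lin G b' • a'
    have h0 : lin G u = 0 := by
      simp only [u, map_sub, map_smul, smul_eq_mul]
      ring
    rw [hobL, ← hind L u ⟨_, h⟩ (show rp p (lin G u) = 0 by rw [h0, _root_.map_zero]) (by
      change Finsupp.mapRange _ _ u = _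
      rw [Finsupp.mapRange_sub (map_sub _), mapRange_smul_ringHom, mapRange_smul_ringHom, hj0, hj0]),
      h0, _root_.map_zero]
  have hle : ∀ L, LinearMap.range ((CotT.trivRelKer P).subtype.baseChange B₀) ≤
      LinearMap.ker (LinearMap.liftBaseChange B₀ (obL L)) := by
    intro L
    have hK : CotT.trivRel P ≤ Submodule.map (CotT.relKer P).subtype (LinearMap.ker (obL L)) := by
      refine Submodule.span_le.2 ?_
      rintro _ ⟨a, b, rfl⟩
      exact ⟨⟨_, CotT.trivRel_le_relKer P (Submodule.subset_span ⟨a, b, rfl⟩)⟩, hgen L a b _, rfl⟩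
    rintro _ ⟨z, rfl⟩
    induction z using TensorProduct.induction_on with
    | zero => simp
    | add a b ha hb => rw [map_add]; exact add_mem ha hb
    | tmul b c =>
      obtain ⟨z, hz, hz'⟩ := hK c.2
      rw [LinearMap.mem_ker, LinearMap.baseChange_tmul, LinearMap.liftBaseChange_tmul,
        Submodule.coe_subtype, show (c : CotT.relKer P) = z from (Subtype.ext hz').symm,
        show obL L z = 0 from hz, smul_zero]
  let ξ : (C' →ₗ[k] k) → (CotT.L2 P →ₗ[B₀] B₀) := fun L =>
    Submodule.liftQ _ (LinearMap.liftBaseChange B₀ (obL L)) (hle L)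
  have hξ : ∀ L b q₀, ξ L (Submodule.Quotient.mk (b ⊗ₜ[P.toExtension.Ring] q₀)) = b * obL L q₀ :=
    fun L b q₀ => by
    simp only [ξ, Submodule.liftQ_apply, LinearMap.liftBaseChange_tmul, smul_eq_mul]
  let ξl : (C' →ₗ[k] k) →ₗ[k] (CotT.L2 P →ₗ[B₀] B₀) :=
    { toFun := ξ
      map_add' := fun L L' => by
        refine Submodule.linearMap_qext _ (TensorProduct.AlgebraTensorModule.ext fun b q₀ => ?_)
        change ξ (L + L') (Submodule.Quotient.mk (b ⊗ₜ q₀)) =
          ξ L (Submodule.Quotient.mk (b ⊗ₜ q₀)) + ξ L' (Submodule.Quotient.mk (b ⊗ₜ q₀))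
        rw [hξ, hξ, hξ, hobL, hobL, hobL, Lev_apply, Lev_apply, Lev_apply, coefL_add, map_add, mul_add]
      map_smul' := fun c L => by
        refine Submodule.linearMap_qext _ (TensorProduct.AlgebraTensorModule.ext fun b q₀ => ?_)
        change ξ (c • L) (Submodule.Quotient.mk (b ⊗ₜ q₀)) = c • ξ L (Submodule.Quotient.mk (b ⊗ₜ q₀))
        rw [hξ, hξ, hobL, hobL, Lev_apply, Lev_apply, coefL_smul, Algebra.smul_def c, map_mul,
          ev_C, Algebra.smul_def]
        ring }
  refine ⟨((LinearMap.range (CotT.d2Star P B₀)).mkQ.restrictScalars k) ∘ₗ ξl, fun L hL t ht hLt => ?_⟩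
  obtain ⟨ψ, hψ⟩ : ξ L ∈ LinearMap.range (CotT.d2Star P B₀) := (Submodule.Quotient.mk_eq_zero _).1 hL
  have hψ' : ∀ u ∈ W, ψ ((1 : B₀) ⊗ₜ[P.toExtension.Ring] m0 u) = Lev P L (lin G u) := by
    intro u hu
    have hm : m0 u ∈ CotT.relKer P := by
      change CotT.jmap P (m0 u) = 0
      rw [← hj0, ← r0_rp P p, show rp p (lin G u) = 0 from hu, _root_.map_zero]
    have h := LinearMap.congr_fun hψ (Submodule.Quotient.mk ((1 : B₀) ⊗ₜ (⟨_, hm⟩ : CotT.relKer P)))
    rw [CotT.d2Star_apply, LinearMap.comp_apply, CotT.d2_mk_tmul, hξ, one_mul, hobL,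
      ← hind L u ⟨_, hm⟩ hu rfl] at h
    exact h
  -- the quotient by the kernel of `L`
  let K : Ideal C' :=
    { carrier := {v | p v = 0 ∧ L v = 0}
      zero_mem' := ⟨map_zero p.toAlgHom, map_zero L⟩
      add_mem' := fun {a b} ha hb => ⟨(map_add p.toAlgHom a b).trans (by rw [ha.1, hb.1, add_zero]),
        by rw [map_add, ha.2, hb.2, add_zero]⟩
      smul_mem' := fun c a ha => ⟨(map_mul p.toAlgHom c a).trans (by rw [ha.1, mul_zero]),
        by rw [smul_eq_mul, mul_eq_res_smul hp ha.1, map_smul, ha.2, smul_zero]⟩ }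
  have hKp : K ≤ RingHom.ker p.toAlgHom := fun v hv => hv.1
  have hK : K ≤ maximalIdeal C' := hKp.trans (Groth.Agent.ArtFunLib.ker_le_maximalIdeal p)
  let C'' := quot C' K hK
  let p'' : C'' ⟶ C := quotFactor hK p hKp
  let qm : C' ⟶ C'' := quotMk C' K hK
  have hqm : ∀ a, qm a = 0 ↔ a ∈ K := fun a => Ideal.Quotient.eq_zero_iff_mem
  have hqs : Function.Surjective qm := quotMk_surjective _ _ _
  have htK : t ∉ K := fun h => one_ne_zero (hLt.symm.trans h.2)
  have hker : RingHom.ker p''.toAlgHom = Ideal.span {qm t} := by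
    refine le_antisymm (fun x hx => ?_) ((Ideal.span_singleton_le_iff_mem _).2 ht)
    obtain ⟨v, rfl⟩ := hqs x
    have hv : p v = 0 := hx
    have hsub : v - algebraMap k C' (L v) * t ∈ K := by
      refine ⟨(map_sub p.toAlgHom _ _).trans ?_, ?_⟩
      · rw [map_mul, ht, mul_zero, sub_zero]; exact hv
      · rw [map_sub, ← Algebra.smul_def, map_smul, hLt, smul_eq_mul, mul_one, sub_self]
    refine Ideal.mem_span_singleton'.2 ⟨qm (algebraMap k C' (L v)), ?_⟩
    exact (map_mul qm.toAlgHom _ _).symm.trans (Ideal.Quotient.eq.2 hsub).symm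
  have htm : ∀ b b' : C'', b * qm t = b' * qm t ↔ C''.res b = C''.res b' := by
    intro b b'
    obtain ⟨b, rfl⟩ := hqs b
    obtain ⟨b', rfl⟩ := hqs b'
    rw [Art.res_app qm, Art.res_app qm]
    refine Iff.trans ?_ (sub_eq_zero (a := C'.res b) (b := C'.res b'))
    rw [← sub_eq_zero, ← sub_mul]
    refine Iff.trans (b := qm ((b - b') * t) = 0) ?_ ?_
    · exact Iff.of_eq (congrArg (· = 0) ((map_mul qm.toAlgHom _ _).trans
        (congrArg (· * qm t) (map_sub qm.toAlgHom _ _))).symm)
    · rw [hqm]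
      refine ⟨fun h => ?_, fun h => ⟨(map_mul p.toAlgHom _ _).trans (by rw [ht, mul_zero]), ?_⟩⟩
      · have h2 := h.2
        rwa [mul_eq_res_smul hp ht, map_smul, hLt, smul_eq_mul, mul_one, map_sub] at h2
      · rw [mul_eq_res_smul hp ht, map_smul, hLt, smul_eq_mul, mul_one, map_sub]
        exact h
  have hsm'' : IsSmallExt p'' := by
    refine ⟨fun y => ?_, fun h => ?_, ?_, ?_⟩
    · obtain ⟨v, rfl⟩ := hp.1 y
      exact ⟨qm v, rfl⟩
    · exact htK ((hqm t).1 (Ideal.mem_bot.1 (h ▸ hker ▸ Ideal.mem_span_singleton_self (qm t))))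
    · exact ⟨⟨qm t, hker⟩⟩
    · refine le_bot_iff.1 (Ideal.mul_le.2 fun a ha b hb => Ideal.mem_bot.2 ?_)
      rw [hker] at hb
      obtain ⟨c, rfl⟩ := Ideal.mem_span_singleton'.1 hb
      rw [← mul_assoc, ← zero_mul (qm t), htm, map_mul, (Art.mem_maximalIdeal_iff _ a).1 ha, zero_mul,
        _root_.map_zero]
  let qmX : MvPolynomial ι C' →+* MvPolynomial ι C'' := MvPolynomial.map qm.toAlgHom.toRingHom
  have hqmXs : Function.Surjective qmX := MvPolynomial.map_surjective _ hqs
  have hrp : ∀ x, rp p'' (qmX x) = rp p x := fun x =>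
    (MvPolynomial.map_map qm.toAlgHom.toRingHom p''.toAlgHom.toRingHom x).trans rfl
  have hr0 : ∀ x, r0 P C'' (qmX x) = r0 P C' x := fun x => r0_rp P qm x
  obtain ⟨B', iB', f', π', hfl, hπs, hπf, -, hkq⟩ := exists_flat_lift_psi hker hsm'' htm hR E
    (fun s => qmX (G s)) (fun s => (hrp _).trans (hG s)) ψ (by
      intro u'' r'' hu'' hr''
      obtain ⟨u, rfl⟩ := Finsupp.mapRange_surjective _ (_root_.map_zero _) hqmXs u''
      obtain ⟨r, rfl⟩ := hqmXs r''
      have hu : u ∈ W := (hW u).2 (by
        rw [← hu'']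
        congr 1
        ext s
        simp [mp, hrp])
      have hm : (u.mapRange qmX (_root_.map_zero _)).mapRange (r0 P C'') (_root_.map_zero _) = m0 u := by
        ext s
        simp [m0, hr0]
      rw [hm, hψ' u hu, hr0]
      have hlin : qmX (lin G u) = lin (fun s => qmX (G s)) (u.mapRange qmX (_root_.map_zero _)) :=
        linearCombination_mapRange qmX (fun s => rfl) u
      have hz : qmX (lin G u - MvPolynomial.C t * r) = 0 := by
        rw [map_sub, map_mul, hlin, hr'', show qmX (MvPolynomial.C t) = MvPolynomial.C (qm t) from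
          MvPolynomial.map_C _ t, sub_self]
      have hz0 : coefL P L (lin G u - MvPolynomial.C t * r) = 0 :=
        MvPolynomial.ext (R := k) _ _ fun n => by
          refine (coeff_coefL P L _ n).trans (Eq.trans ?_ (MvPolynomial.coeff_zero n).symm)
          exact ((hqm _).1 ((MvPolynomial.coeff_map qm.toAlgHom.toRingHom _ n).symm.trans
            ((congrArg (coeff n) hz).trans (coeff_zero n)))).2
      have hC : coefL P L (MvPolynomial.C t) = 1 :=
        MvPolynomial.ext (R := k) _ _ fun n => by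
          refine (coeff_coefL P L _ n).trans (Eq.trans ?_ (MvPolynomial.coeff_one n).symm)
          rw [coeff_C]
          split_ifs with h
          · exact hLt
          · exact map_zero L
      rw [map_sub, sub_eq_zero] at hz0
      rw [Lev_apply, hz0, coefL_mul P hp L (show rp p (MvPolynomial.C t) = 0 from
        (MvPolynomial.map_C p.toAlgHom.toRingHom t).trans (by
          rw [show p.toAlgHom.toRingHom t = 0 from ht, _root_.map_zero])), hC, one_mul])
  have hR' : IsDef C'' f' (q.comp π') :=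
    { comp := fun a => by
        rw [RingHom.comp_apply, ← RingHom.comp_apply π', hπf, RingHom.comp_apply]
        exact (hR.comp _).trans (congrArg _ (Art.res_app p'' a))
      surj := hR.surj.comp hπs
      ker_le := hkq.le
      flat := hfl }
  exact ⟨K, hK, hKp, htK, hR'.toDef.cl,
    map_cl_of_hom hR' hR π' (fun a => RingHom.congr_fun hπf a) fun r => rfl⟩

end Groth.Agent.DefAffHull
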