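import Groth.Agent.DefAffHull.Scheme
import Groth.Agent.CotLib.ExalPres
import Groth.Agent.ArtFunLib.Tangent
import Mathlib.LinearAlgebra.TensorProduct.Basis

/-!
# The tangent space of deformations of an affine algebra from a presentation
-/

set_option autoImplicit false
set_option linter.unusedSectionVars false
universe u

open CategoryTheory AlgebraicGeometry IsLocalRing ArtFun TensorProduct
open Groth.Agent.CotLib

namespace Groth.Agent.DefAffHull

section Desc
open ExalPres
attribute [local instance] Exal.opModule Exal.isCentralScalar_opModule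

variable {A R B : Type u} [CommRing A] [CommRing R] [Algebra A R] [CommRing B] [Algebra A B]
variable {π : R →ₐ[A] B} {M : Type u} [AddCommGroup M] [Module B M]

/-- Maps out of the extension attached to `φ`. -/
theorem exists_desc (φ : Phi π M) {T : Type u} [CommRing T] [Algebra A T] (Φ : R →ₐ[A] T) (j : M →+ T)
    (hj : ∀ m n, j m * j n = 0) (hjm : ∀ r m, Φ r * j m = j (π r • m))
    (hφ : ∀ x : RingHom.ker π, Φ x = j (φ x)) :
    ∃ G : Carrier φ →ₐ[A] T, ∀ z, G (Ideal.Quotient.mk _ z) = Φ (c1 z) + j (c2 z) := by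
  let F : Sum' π M →ₐ[A] T :=
    { toFun := fun z => Φ (c1 z) + j (c2 z)
      map_one' := by rw [c1_one, c2_one, map_one, map_zero, add_zero]
      map_mul' := fun z w => by
        rw [c1_mul, c2_mul, map_mul, map_add, ← hjm, ← hjm, add_mul, mul_add, mul_add, hj,
          mul_comm (j (c2 z)) (Φ (c1 w))]
        abel
      map_zero' := by rw [c1_zero, c2_zero, map_zero, map_zero, add_zero]
      map_add' := fun z w => by
        rw [c1_add, c2_add, map_add, map_add]
        abel
      commutes' := fun a => by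
        rw [c1_algebraMap, c2_algebraMap, map_zero, add_zero, AlgHom.commutes] }
  refine ⟨Ideal.Quotient.liftₐ _ F ?_, fun z => rfl⟩
  rintro z ⟨hz, hz'⟩
  change Φ (c1 z) + j (c2 z) = 0
  rw [hz', map_neg, ← hφ, add_neg_cancel]

end Desc

variable {Λ k : Type u} [CommRing Λ] [Field k] [Algebra Λ k]
variable {B₀ : Type u} [CommRing B₀] [Algebra k B₀]

section dualN

variable {d : ℕ}

/-- `v ↦ (0, v)`. -/
def inrN (v : Fin d → k) : ArtFunLib.dualN Λ k d := TrivSqZeroExt.inr (R := k) v

theorem inrN_zero : inrN (Λ := Λ) (k := k) (d := d) 0 = 0 := TrivSqZeroExt.inr_zero k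

theorem inrN_add (v w : Fin d → k) : inrN (Λ := Λ) (v + w) = inrN v + inrN w := TrivSqZeroExt.inr_add k v w

/-- `k ⊕ k^d → E` for an extension by `B₀ ⊗ k^d`. -/
noncomputable def extHom (X : Exal.Ext k B₀ (B₀ ⊗[k] (Fin d → k))) : ArtFunLib.dualN Λ k d →+* X.E where
  toFun z := algebraMap k X.E (TrivSqZeroExt.fst (R := k) z) +
    X.incl ((1 : B₀) ⊗ₜ ArtFunLib.sndN z)
  map_one' := by
    change algebraMap k X.E 1 + X.incl ((1 : B₀) ⊗ₜ 0) = 1
    simp
  map_mul' z w := by
    have h : ∀ (a : k) (v : Fin d → k), algebraMap k X.E a * X.incl ((1 : B₀) ⊗ₜ v) =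
        X.incl ((1 : B₀) ⊗ₜ (a • v)) := fun a v => by
      rw [X.isExtension.mul_incl, AlgHom.commutes, tmul_smul, algebraMap_smul]
    have h2 : ArtFunLib.sndN (z * w) = TrivSqZeroExt.fst (R := k) z • ArtFunLib.sndN w +
        TrivSqZeroExt.fst (R := k) w • ArtFunLib.sndN z := by
      refine (TrivSqZeroExt.snd_mul (R := k) (M := Fin d → k) z w).trans ?_
      rw [op_smul_eq_smul]
      rfl
    rw [h2, tmul_add, map_add, ← h, ← h, add_mul, mul_add, mul_add, ExalPres.incl_mul_incl, add_zero,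
      show TrivSqZeroExt.fst (R := k) (z * w) =
        TrivSqZeroExt.fst (R := k) z * TrivSqZeroExt.fst (R := k) w from rfl, map_mul,
      mul_comm (X.incl _) (algebraMap k X.E _)]
    abel
  map_zero' := by
    change algebraMap k X.E 0 + X.incl ((1 : B₀) ⊗ₜ 0) = 0
    simp
  map_add' z w := by
    change algebraMap k X.E (_ + _) + X.incl ((1 : B₀) ⊗ₜ (ArtFunLib.sndN z + ArtFunLib.sndN w)) = _
    rw [map_add, tmul_add, map_add]
    exact add_add_add_comm _ _ _ _

theorem isDef_ext (X : Exal.Ext k B₀ (B₀ ⊗[k] (Fin d → k))) :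
    IsDef (ArtFunLib.dualN Λ k d) (extHom X) X.proj.toRingHom := by
  have hc : ∀ z : ArtFunLib.dualN Λ k d, X.proj (extHom X z) =
      algebraMap k B₀ ((ArtFunLib.dualN Λ k d).res z) := fun z => by
    change X.proj (algebraMap k X.E _ + X.incl _) = _
    rw [map_add, AlgHom.commutes, (X.isExtension.exact _).2 ⟨_, rfl⟩, add_zero]
    rfl
  let e := Module.Free.chooseBasis k B₀
  choose s hs using fun i => X.isExtension.proj_surjective (e i)
  let L := TensorProduct.equivFinsuppOfBasisLeft (M := B₀) (N := Fin d → k) e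
  have hsnd : ∀ c : Module.Free.ChooseBasisIndex k B₀ →₀ (Fin d → k),
      lc (extHom (Λ := Λ) X) s (c.mapRange (inrN (Λ := Λ)) inrN_zero) =
        X.incl (L.symm c) := fun c => by
    induction c using Finsupp.induction_linear with
    | zero => simp
    | add a b ha hb =>
      rw [Finsupp.mapRange_add inrN_add, map_add, map_add, map_add, ha, hb]
    | single i a =>
      rw [Finsupp.mapRange_single, lc_single]
      change (algebraMap k X.E 0 + X.incl ((1 : B₀) ⊗ₜ a)) * s i = _
      rw [map_zero, zero_add, mul_comm, X.isExtension.mul_incl, hs, TensorProduct.smul_tmul',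
        smul_eq_mul, mul_one]
      congr 1
      simp [L]
  refine IsDef.of_bijective hc e hs ⟨(injective_iff_map_eq_zero _).2 fun c hc0 => ?_, fun r => ?_⟩
  · have h1 := congrArg X.proj hc0
    erw [q_lc hc e hs, map_zero] at h1
    have h2 := e.linearIndependent (h1.trans (map_zero _).symm)
    have h3 : ∀ i, TrivSqZeroExt.fst (R := k) (c i) = 0 := fun i => DFunLike.congr_fun h2 i
    let c' : Module.Free.ChooseBasisIndex k B₀ →₀ (Fin d → k) :=
      c.mapRange (fun z => ArtFunLib.sndN z) rfl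
    have h4 : c'.mapRange (inrN (Λ := Λ)) inrN_zero = c :=
      Finsupp.ext fun i => TrivSqZeroExt.ext (h3 i).symm rfl
    have h5 := hsnd c'
    rw [h4, hc0, eq_comm, ← map_zero X.incl] at h5
    have h6 : c' = 0 := L.symm.map_eq_zero_iff.1 (X.isExtension.incl_injective h5)
    rw [← h4, h6, Finsupp.mapRange_zero]
  · obtain ⟨c, hc'⟩ := Finsupp.mapRange_surjective (ArtFunLib.dualN Λ k d).res (map_zero _)
      (ArtFunLib.dualN Λ k d).res_surjective (e.repr (X.proj r))
    obtain ⟨m, hm⟩ := (X.isExtension.exact (r - lc (extHom (Λ := Λ) X) s c)).1 (by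
      rw [map_sub, sub_eq_zero]
      exact (e.linearCombination_repr (X.proj r)).symm.trans
        ((congrArg _ hc'.symm).trans (q_lc hc e hs c).symm))
    refine ⟨c + (L m).mapRange (inrN (Λ := Λ)) inrN_zero, ?_⟩
    rw [map_add, hsnd, L.symm_apply_apply, hm]
    abel

end dualN

/-- `c ↦ c + 0ε`. -/
def inlD (c : k) : Art.dual Λ k := (TrivSqZeroExt.inl c : DualNumber k)

/-- `ε`. -/
def epsD : Art.dual Λ k := (DualNumber.eps : DualNumber k)

theorem epsD_mul_snd (z : Art.dual Λ k) :
    TrivSqZeroExt.snd (R := k) (epsD * z) = TrivSqZeroExt.fst (R := k) z :=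
  (TrivSqZeroExt.snd_mul (DualNumber.eps : DualNumber k) (z : DualNumber k)).trans (by simp)

theorem snd_mul_epsD (z : Art.dual Λ k) :
    TrivSqZeroExt.snd (R := k) (z * epsD) = TrivSqZeroExt.fst (R := k) z :=
  (congrArg (TrivSqZeroExt.snd (R := k)) (mul_comm z epsD)).trans (epsD_mul_snd z)

/-- Contraction with a linear form. -/
noncomputable def lmap {d : ℕ} (l : (Fin d → k) →ₗ[k] k) : B₀ ⊗[k] (Fin d → k) →ₗ[B₀] B₀ :=
  (TensorProduct.AlgebraTensorModule.rid k B₀ B₀).toLinearMap.comp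
    (TensorProduct.AlgebraTensorModule.map LinearMap.id l)

theorem lmap_tmul {d : ℕ} (l : (Fin d → k) →ₗ[k] k) (b : B₀) (v : Fin d → k) :
    lmap l (b ⊗ₜ v) = l v • b := by
  simp [lmap]

/-- The tangent space is spanned by one element when `Hom(I/I², B₀)` is spanned modulo derivations. -/
theorem tangent_spanned {n : ℕ} (π : MvPolynomial (Fin n) k →ₐ[k] B₀) (hπ : Function.Surjective π)
    {d : ℕ} (Φd : ExalPres.Phi π (B₀ ⊗[k] (Fin d → k)))
    (hspan : ∀ ψ : ExalPres.Phi π B₀, ∃ (l : (Fin d → k) →ₗ[k] k) (D : MvPolynomial (Fin n) k → B₀),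
      ExalPres.IsDer π B₀ D ∧ ∀ x, ψ x = lmap l (Φd x) + D x) :
    ∃ z : (defFunctor (Λ := Λ) (Spec (CommRingCat.of B₀)) (str k B₀)).obj (ArtFunLib.dualN Λ k d),
      ∀ y, ∃ l, (defFunctor _ _).map (ArtFunLib.tN l) z = y := by
  let X := ExalPres.E hπ Φd
  refine ⟨(isDef_ext (Λ := Λ) X).toDef.cl, fun y => ?_⟩
  obtain ⟨R, _, f, q, hR, rfl⟩ := exists_isDef_cl y
  let ie : k →+* R := f.comp (TrivSqZeroExt.inlHom k k : k →+* (Art.dual Λ k))
  letI : Algebra k R := ie.toAlgebra
  have hq : ∀ c, q (algebraMap k R c) = algebraMap k B₀ c := fun c => hR.comp _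
  let ε : Art.dual Λ k := epsD
  have hεε : ε * ε = 0 := DualNumber.eps_mul_eps
  have hfs : ∀ z : Art.dual Λ k, TrivSqZeroExt.fst (R := k) z = 0 →
      z = inlD (TrivSqZeroExt.snd (R := k) z) * ε := fun z hz => by
    refine TrivSqZeroExt.ext ?_ ?_
    · change _ = TrivSqZeroExt.snd (R := k) z * 0
      rw [mul_zero, hz]
    · exact (snd_mul_epsD (inlD (Λ := Λ) (TrivSqZeroExt.snd (R := k) z))).symm
  have hker : ∀ r, q r = 0 → ∃ w, r = f ε * w := fun r hr => by
    have h1 := hR.ker_le (show r ∈ RingHom.ker q from hr)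
    have h2 : (maximalIdeal (Art.dual Λ k)).map f ≤ Ideal.span {f ε} :=
      Ideal.map_le_iff_le_comap.2 fun z hz => by
        rw [Ideal.mem_comap, hfs z ((Art.mem_maximalIdeal_iff _ z).1 hz)]
        erw [map_mul]
        exact Ideal.mul_mem_left _ _ (Ideal.mem_span_singleton_self _)
    obtain ⟨w, hw⟩ := Ideal.mem_span_singleton.1 (h2 h1)
    exact ⟨w, hw⟩
  have hkill : ∀ r, q r = 0 → f ε * r = 0 := fun r hr => by
    obtain ⟨w, rfl⟩ := hker r hr
    rw [← mul_assoc, ← map_mul, hεε, map_zero, zero_mul]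
  let sec : B₀ → R := Function.surjInv hR.surj
  have hsec : ∀ b, q (sec b) = b := Function.surjInv_eq hR.surj
  have heq : ∀ r r', q r = q r' → f ε * r = f ε * r' := fun r r' h => by
    rw [← sub_eq_zero, ← mul_sub]
    exact hkill _ (by rw [map_sub, h, sub_self])
  let j₁ : B₀ →+ R :=
    { toFun := fun b => f ε * sec b
      map_zero' := hkill _ (hsec 0)
      map_add' := fun b b' => by
        rw [← mul_add]
        exact heq _ _ (by rw [map_add, hsec, hsec, hsec]) }
  have hj₁ : ∀ r b, r * j₁ b = j₁ (q r * b) := fun r b => by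
    change r * (f ε * sec b) = f ε * sec _
    rw [mul_left_comm]
    exact heq _ _ (by rw [map_mul, hsec, hsec])
  have hqj₁ : ∀ b, q (j₁ b) = 0 := fun b => by
    change q (f ε * sec b) = 0
    rw [map_mul, hR.comp, show (Art.dual Λ k).res ε = (0 : k) from rfl, map_zero, zero_mul]
  have hjj : ∀ b b', j₁ b * j₁ b' = 0 := fun b b' => by
    rw [hj₁, hqj₁, zero_mul, map_zero]
  have hj₁i : Function.Injective j₁ := by
    refine (injective_iff_map_eq_zero j₁).2 fun b hb => ?_
    let e := Module.Free.chooseBasis k B₀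
    choose v hv using fun i => hR.surj (e i)
    obtain ⟨c, hc⟩ := (hR.bijective_lc e hv).2 (sec b)
    have h1 : ∀ c, f ε * lc f v c = lc f v (c.mapRange (ε * ·) (mul_zero ε)) := fun c => by
      induction c using Finsupp.induction_linear with
      | zero => simp
      | add a b ha hb => rw [Finsupp.mapRange_add (mul_add ε), map_add, map_add, mul_add, ha, hb]
      | single i a => rw [Finsupp.mapRange_single, lc_single, lc_single, map_mul, mul_assoc]
    have h2 : lc f v (c.mapRange (ε * ·) (mul_zero ε)) = 0 := by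
      rw [← h1, hc]
      exact hb
    have h3 := (hR.bijective_lc e hv).1 (h2.trans (map_zero _).symm)
    rw [← hsec b, ← hc, q_lc hR.comp e hv]
    refine (congrArg _ (Finsupp.ext fun i => ?_)).trans (map_zero _)
    have h4 : TrivSqZeroExt.snd (R := k) (ε * c i) = (0 : k) :=
      congrArg (TrivSqZeroExt.snd (R := k)) (DFunLike.congr_fun h3 i)
    exact (epsD_mul_snd (c i)).symm.trans h4
  choose g hg using fun i => hR.surj (π (MvPolynomial.X i))
  let Φ₀ : MvPolynomial (Fin n) k →ₐ[k] R := MvPolynomial.aeval g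
  have hΦ₀ : ∀ r, q (Φ₀ r) = π r := fun r => by
    have h : q.comp Φ₀.toRingHom = π.toRingHom :=
      MvPolynomial.ringHom_ext (fun c => by simp [Φ₀, hq]) (fun i => by simp [Φ₀, hg])
    exact RingHom.congr_fun h r
  have hex : ∀ x : RingHom.ker π, ∃ b, Φ₀ x = j₁ b := fun x => by
    obtain ⟨w, hw⟩ := hker (Φ₀ x) ((hΦ₀ x).trans x.2)
    exact ⟨q w, hw.trans (heq _ _ (hsec _).symm)⟩
  choose ψ hψ using hex
  obtain ⟨l, D, hD, hl⟩ := hspan
    ⟨ψ, fun x y => hj₁i (by rw [← hψ, map_add, ← hψ, ← hψ, ← map_add]; rfl),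
      fun r x => hj₁i (by rw [← hψ, smul_eq_mul, ← hΦ₀, ← hj₁, ← hψ, ← map_mul]; rfl)⟩
  let Φ₁ : MvPolynomial (Fin n) k →ₐ[k] R :=
    { toFun := fun r => Φ₀ r - j₁ (D r)
      map_one' := by
        rw [map_one, show D 1 = 0 by rw [← map_one (algebraMap k (MvPolynomial (Fin n) k))]; exact hD.const 1,
          map_zero, sub_zero]
      map_mul' := fun a b => by
        rw [hD.mul, map_mul, map_add, smul_eq_mul, smul_eq_mul, ← hΦ₀, ← hΦ₀, ← hj₁, ← hj₁, sub_mul,
          mul_sub, mul_sub, hjj, mul_comm (j₁ (D a)) (Φ₀ b)]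
        abel
      map_zero' := by rw [map_zero, hD.map_zero, map_zero, sub_zero]
      map_add' := fun a b => by
        rw [hD.add, map_add, map_add]
        abel
      commutes' := fun a => by rw [hD.const, map_zero, sub_zero, AlgHom.commutes] }
  have hΦ₁ : ∀ r, q (Φ₁ r) = π r := fun r => by
    change q (Φ₀ r - j₁ (D r)) = _
    rw [map_sub, hΦ₀, hqj₁, sub_zero]
  let j : B₀ ⊗[k] (Fin d → k) →+ R := j₁.comp (lmap l).toAddMonoidHom
  obtain ⟨G, hG⟩ := exists_desc Φd Φ₁ j (fun m m' => hjj _ _)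
    (fun r m => by
      change Φ₁ r * j₁ (lmap l m) = j₁ (lmap l (π r • m))
      rw [map_smul, smul_eq_mul, ← hΦ₁, hj₁])
    (fun x => by
      change Φ₀ x - j₁ (D x) = j₁ (lmap l (Φd x))
      have hl' : ψ x = lmap l (Φd x) + D x := hl x
      rw [hψ, ← map_sub, hl', add_sub_cancel_right])
  have hGi : ∀ m, G (X.incl m) = j m := fun m => by
    refine (hG (ExalPres.pair 0 m)).trans ?_
    rw [ExalPres.c1_pair, ExalPres.c2_pair, map_zero, zero_add]
  refine ⟨l, map_cl_of_hom (isDef_ext (Λ := Λ) X) hR G.toRingHom (fun z => ?_) fun r => ?_⟩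
  · change G (algebraMap k X.E (TrivSqZeroExt.fst (R := k) z) + X.incl _) = _
    erw [map_add, AlgHom.commutes, hGi]
    have hz : (ArtFunLib.tN (Λ := Λ) l) z =
        inlD (TrivSqZeroExt.fst (R := k) z) + inlD (l (ArtFunLib.sndN z)) * ε := by
      refine TrivSqZeroExt.ext ?_ ?_
      · change TrivSqZeroExt.fst (R := k) z = TrivSqZeroExt.fst (R := k) z + l (ArtFunLib.sndN z) * 0
        rw [mul_zero, add_zero]
      · refine Eq.trans ?_ (zero_add _).symm
        exact (snd_mul_epsD (inlD (Λ := Λ) (l (ArtFunLib.sndN z)))).symm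
    rw [hz]
    erw [map_add, map_mul]
    refine congrArg₂ (· + ·) rfl ?_
    change j₁ (lmap l ((1 : B₀) ⊗ₜ ArtFunLib.sndN z)) = _
    rw [lmap_tmul, mul_comm]
    refine heq _ _ ?_
    rw [hsec, Algebra.smul_def, mul_one]
    exact (hq _).symm
  · obtain ⟨w, rfl⟩ := Ideal.Quotient.mk_surjective r
    refine (congrArg q (hG w)).trans ?_
    rw [map_add, hΦ₁]
    change _ + q (j₁ _) = _
    rw [hqj₁, add_zero]
    rfl

/-- The tangent space is finite dimensional. -/
theorem hfin_of_spanned [TangentStr (defFunctor (Λ := Λ) (Spec (CommRingCat.of B₀)) (str k B₀))] {d : ℕ}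
    (z : (defFunctor (Λ := Λ) (Spec (CommRingCat.of B₀)) (str k B₀)).obj (ArtFunLib.dualN Λ k d))
    (hz : ∀ y, ∃ l, (defFunctor _ _).map (ArtFunLib.tN l) z = y) :
    Hfin (defFunctor (Λ := Λ) (Spec (CommRingCat.of B₀)) (str k B₀)) :=
  Module.Finite.of_surjective (ArtFunLib.tangentLin z) fun y => hz y

end Groth.Agent.DefAffHull
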