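import Groth.Agent.DefAffHull.Tangent
import Groth.Prelude.Def_CotT

/-!
# The tangent space of deformations of an affine algebra is `T¹`
-/

set_option autoImplicit false
set_option linter.unusedSectionVars false
set_option backward.isDefEq.respectTransparency false
universe u

open CategoryTheory AlgebraicGeometry IsLocalRing ArtFun TensorProduct
open Groth.Agent.CotLib

namespace Groth.Agent.DefAffHull

variable {Λ k : Type u} [CommRing Λ] [Field k] [Algebra Λ k]
variable {B₀ : Type u} [CommRing B₀] [Algebra k B₀]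

/-- The `ε`-part of a deformation over the dual numbers. -/
theorem exists_eps {R : Type u} [CommRing R] {f : Art.dual Λ k →+* R} {q : R →+* B₀}
    (hR : IsDef (Art.dual Λ k) f q) :
    ∃ j : B₀ →+ R, (∀ r b, r * j b = j (q r * b)) ∧ (∀ b b', j b * j b' = 0) ∧ Function.Injective j ∧
      (∀ b, q (j b) = 0) ∧ (∀ r, q r = 0 → ∃ b, r = j b) ∧
      ∀ a : k, f (inlD a * epsD) = j (algebraMap k B₀ a) := by
  let ε : Art.dual Λ k := epsD
  have hεε : ε * ε = 0 := DualNumber.eps_mul_eps
  have hfs : ∀ z : Art.dual Λ k, TrivSqZeroExt.fst (R := k) z = 0 →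
      z = inlD (TrivSqZeroExt.snd (R := k) z) * ε := fun z hz => by
    refine TrivSqZeroExt.ext ?_ ?_
    · change _ = TrivSqZeroExt.snd (R := k) z * 0
      rw [mul_zero, hz]
    · exact (snd_mul_epsD (inlD (Λ := Λ) (TrivSqZeroExt.snd (R := k) z))).symm
  have hker : ∀ r, q r = 0 → ∃ w, r = f ε * w := fun r hr => by
    have h1 := hR.ker_le (show r ∈ RingHom.ker q from hr)
    have h2 : (maximalIdeal (Art.dual Λ k)).map f ≤ Ideal.span {f ε} :=
      Ideal.map_le_iff_le_comap.2 fun z hz => by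
        rw [Ideal.mem_comap, hfs z ((Art.mem_maximalIdeal_iff _ z).1 hz)]
        erw [map_mul]
        exact Ideal.mul_mem_left _ _ (Ideal.mem_span_singleton_self _)
    obtain ⟨w, hw⟩ := Ideal.mem_span_singleton.1 (h2 h1)
    exact ⟨w, hw⟩
  have hkill : ∀ r, q r = 0 → f ε * r = 0 := fun r hr => by
    obtain ⟨w, rfl⟩ := hker r hr
    rw [← mul_assoc, ← map_mul, hεε, map_zero, zero_mul]
  let sec : B₀ → R := Function.surjInv hR.surj
  have hsec : ∀ b, q (sec b) = b := Function.surjInv_eq hR.surj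
  have heq : ∀ r r', q r = q r' → f ε * r = f ε * r' := fun r r' h => by
    rw [← sub_eq_zero, ← mul_sub]
    exact hkill _ (by rw [map_sub, h, sub_self])
  let j₁ : B₀ →+ R :=
    { toFun := fun b => f ε * sec b
      map_zero' := hkill _ (hsec 0)
      map_add' := fun b b' => by
        rw [← mul_add]
        exact heq _ _ (by rw [map_add, hsec, hsec, hsec]) }
  have hj₁ : ∀ r b, r * j₁ b = j₁ (q r * b) := fun r b => by
    change r * (f ε * sec b) = f ε * sec _
    rw [mul_left_comm]
    exact heq _ _ (by rw [map_mul, hsec, hsec])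
  have hqj₁ : ∀ b, q (j₁ b) = 0 := fun b => by
    change q (f ε * sec b) = 0
    rw [map_mul, hR.comp, show (Art.dual Λ k).res ε = (0 : k) from rfl, map_zero, zero_mul]
  refine ⟨j₁, hj₁, fun b b' => by rw [hj₁, hqj₁, zero_mul, map_zero], ?_, hqj₁,
    fun r hr => ?_, fun a => ?_⟩
  · refine (injective_iff_map_eq_zero j₁).2 fun b hb => ?_
    let e := Module.Free.chooseBasis k B₀
    choose v hv using fun i => hR.surj (e i)
    obtain ⟨c, hc⟩ := (hR.bijective_lc e hv).2 (sec b)
    have h1 : ∀ c, f ε * lc f v c = lc f v (c.mapRange (ε * ·) (mul_zero ε)) := fun c => by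
      induction c using Finsupp.induction_linear with
      | zero => simp
      | add a b ha hb => rw [Finsupp.mapRange_add (mul_add ε), map_add, map_add, mul_add, ha, hb]
      | single i a => rw [Finsupp.mapRange_single, lc_single, lc_single, map_mul, mul_assoc]
    have h2 : lc f v (c.mapRange (ε * ·) (mul_zero ε)) = 0 := by
      rw [← h1, hc]
      exact hb
    have h3 := (hR.bijective_lc e hv).1 (h2.trans (map_zero _).symm)
    rw [← hsec b, ← hc, q_lc hR.comp e hv]
    refine (congrArg _ (Finsupp.ext fun i => ?_)).trans (map_zero _)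
    exact (epsD_mul_snd (c i)).symm.trans (congrArg (TrivSqZeroExt.snd (R := k)) (DFunLike.congr_fun h3 i))
  · obtain ⟨w, rfl⟩ := hker r hr
    exact ⟨q w, heq _ _ (hsec _).symm⟩
  · rw [mul_comm]
    erw [map_mul]
    exact heq _ _ ((hR.comp _).trans (hsec _).symm)

variable {R₀ : Type u} [CommRing R₀] [Algebra k R₀]

/-- The tangent space is parametrised by `Hom(I/I², B₀)` modulo derivations. -/
theorem tangent_param (π : R₀ →ₐ[k] B₀) (hπ : Function.Surjective π)
    (hlift : ∀ (T : Type u) [CommRing T] [Algebra k T] (q : T →ₐ[k] B₀), Function.Surjective q →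
      ∃ Φ : R₀ →ₐ[k] T, q.comp Φ = π)
    {d : ℕ} (Φd : ExalPres.Phi π (B₀ ⊗[k] (Fin d → k)))
    (hspan : ∀ ψ : ExalPres.Phi π B₀, ∃ (l : (Fin d → k) →ₗ[k] k) (D : R₀ → B₀),
      ExalPres.IsDer π B₀ D ∧ ∀ x, ψ x = lmap l (Φd x) + D x)
    (hind : ∀ (l : (Fin d → k) →ₗ[k] k) (D : R₀ → B₀), ExalPres.IsDer π B₀ D →
      (∀ x, lmap l (Φd x) = D x) → l = 0) :
    ∃ z : (defFunctor (Λ := Λ) (Spec (CommRingCat.of B₀)) (str k B₀)).obj (ArtFunLib.dualN Λ k d),
      Function.Bijective fun l : (Fin d → k) →ₗ[k] k => (defFunctor _ _).map (ArtFunLib.tN l) z := by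
  let X := ExalPres.E hπ Φd
  have hincl : ∀ {R : Type u} [CommRing R] {f : Art.dual Λ k →+* R} {q : R →+* B₀} (_ : IsDef (Art.dual Λ k) f q)
      (j : B₀ →+ R), (∀ r b, r * j b = j (q r * b)) → (∀ a : k, f (inlD a * epsD) = j (algebraMap k B₀ a)) →
      ∀ (G : X.E →+* R) (l : (Fin d → k) →ₗ[k] k), (∀ z, G (extHom (Λ := Λ) X z) = f ((ArtFunLib.tN l) z)) →
      (∀ r, q (G r) = X.proj r) → ∀ m, G (X.incl m) = j (lmap l m) := by
    intro R _ f q _ j hj hje G l hG hq m
    induction m using TensorProduct.induction_on with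
    | zero => simp
    | add a b ha hb => rw [map_add, map_add, map_add, map_add, ha, hb]
    | tmul b v =>
      obtain ⟨s, hs⟩ := X.isExtension.proj_surjective b
      have h1 : extHom (Λ := Λ) X (inrN v) = X.incl ((1 : B₀) ⊗ₜ v) := by
        change algebraMap k X.E 0 + X.incl ((1 : B₀) ⊗ₜ v) = _
        rw [map_zero, zero_add]
      have h2 : (ArtFunLib.tN (Λ := Λ) l) (inrN v) = inlD (l v) * epsD := by
        refine TrivSqZeroExt.ext ?_ ?_
        · change (0 : k) = l v * 0
          rw [mul_zero]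
        · exact (snd_mul_epsD (inlD (Λ := Λ) (l v))).symm
      have h3 : X.incl (b ⊗ₜ v) = s * X.incl ((1 : B₀) ⊗ₜ v) := by
        rw [X.isExtension.mul_incl, hs, TensorProduct.smul_tmul', smul_eq_mul, mul_one]
      rw [h3, map_mul, ← h1, hG, h2, hje, hj, hq, hs, lmap_tmul]
      congr 1
      rw [Algebra.smul_def, mul_comm]
  obtain ⟨Φc, hΦc, hΦcφ⟩ := ExalPres.lifts_E hπ Φd
  refine ⟨(isDef_ext (Λ := Λ) X).toDef.cl, fun l l' he => ?_, fun y => ?_⟩
  · obtain ⟨R, _, f, q, hR, hcl⟩ := exists_isDef_cl ((defFunctor _ _).map (ArtFunLib.tN l) (isDef_ext (Λ := Λ) X).toDef.cl)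
    obtain ⟨G, hG, hGq⟩ := exists_hom_of_map_cl (isDef_ext (Λ := Λ) X) hR hcl.symm
    obtain ⟨G', hG', hGq'⟩ := exists_hom_of_map_cl (isDef_ext (Λ := Λ) X) hR (he.symm.trans hcl.symm)
    obtain ⟨j, hj, hjj, hji, hqj, hjr, hje⟩ := exists_eps hR
    have hdiff : ∀ r, ∃ b, G (Φc r) - G' (Φc r) = j b := fun r =>
      hjr _ (by rw [map_sub, hGq, hGq', sub_self])
    choose D hD using hdiff
    have hder : ExalPres.IsDer π B₀ D := by
      refine ⟨fun a b => hji ?_, fun a b => hji ?_, fun a => hji ?_⟩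
      · rw [map_add, ← hD, ← hD, ← hD, map_add, map_add, map_add]
        abel
      · have ha : q (G (Φc a)) = π a := (hGq _).trans (hΦc a)
        have hb : q (G' (Φc b)) = π b := (hGq' _).trans (hΦc b)
        rw [map_add, smul_eq_mul, smul_eq_mul, ← ha, ← hb, ← hj, ← hj, ← hD, ← hD, ← hD, map_mul, map_mul, map_mul]
        ring
      · rw [map_zero, ← hD, sub_eq_zero, AlgHom.commutes]
        have h1 : algebraMap k X.E a = extHom (Λ := Λ) X (TrivSqZeroExt.inl a : TrivSqZeroExt k (Fin d → k)) := by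
          change _ = algebraMap k X.E a + X.incl ((1 : B₀) ⊗ₜ 0)
          rw [tmul_zero, map_zero, add_zero]
        rw [h1, hG, hG']
        congr 1
        refine TrivSqZeroExt.ext rfl ?_
        change l 0 = l' 0
        rw [map_zero, map_zero]
    have hz : l - l' = 0 := hind (l - l') D hder fun x => hji (by
      rw [← hD, hΦcφ, hincl hR j hj hje G l hG hGq, hincl hR j hj hje G' l' hG' hGq', ← map_sub]
      congr 1
      simp only [lmap, LinearMap.comp_apply, LinearEquiv.coe_coe]
      generalize Φd x = m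
      induction m using TensorProduct.induction_on with
      | zero => simp
      | add a b ha hb => simp only [map_add, add_sub_add_comm, ha, hb]
      | tmul b v => simp [sub_smul])
    exact sub_eq_zero.1 hz
  · obtain ⟨R, _, f, q, hR, rfl⟩ := exists_isDef_cl y
    obtain ⟨j, hj, hjj, hji, hqj, hjr, hje⟩ := exists_eps hR
    let ie : k →+* R := f.comp (TrivSqZeroExt.inlHom k k : k →+* (Art.dual Λ k))
    letI : Algebra k R := ie.toAlgebra
    have hq : ∀ c, q (algebraMap k R c) = algebraMap k B₀ c := fun c => hR.comp _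
    let qa : R →ₐ[k] B₀ := { q with commutes' := hq }
    obtain ⟨Φ₀, hΦ₀'⟩ := hlift R qa hR.surj
    have hΦ₀ : ∀ r, q (Φ₀ r) = π r := fun r => DFunLike.congr_fun hΦ₀' r
    choose ψ hψ using fun x : RingHom.ker π => hjr (Φ₀ x) ((hΦ₀ x).trans x.2)
    obtain ⟨l, D, hD, hl⟩ := hspan
      ⟨ψ, fun x y => hji (by rw [← hψ, map_add, ← hψ, ← hψ, ← map_add]; rfl),
        fun r x => hji (by rw [← hψ, smul_eq_mul, ← hΦ₀, ← hj, ← hψ, ← map_mul]; rfl)⟩
    let Φ₁ : R₀ →ₐ[k] R :=
      { toFun := fun r => Φ₀ r - j (D r)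
        map_one' := by
          rw [map_one, show D 1 = 0 by rw [← map_one (algebraMap k R₀)]; exact hD.const 1, map_zero, sub_zero]
        map_mul' := fun a b => by
          rw [hD.mul, map_mul, map_add, smul_eq_mul, smul_eq_mul, ← hΦ₀, ← hΦ₀, ← hj, ← hj, sub_mul,
            mul_sub, mul_sub, hjj, mul_comm (j (D a)) (Φ₀ b)]
          abel
        map_zero' := by rw [map_zero, hD.map_zero, map_zero, sub_zero]
        map_add' := fun a b => by
          rw [hD.add, map_add, map_add]
          abel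
        commutes' := fun a => by rw [hD.const, map_zero, sub_zero, AlgHom.commutes] }
    have hΦ₁ : ∀ r, q (Φ₁ r) = π r := fun r => by
      change q (Φ₀ r - j (D r)) = _
      rw [map_sub, hΦ₀, hqj, sub_zero]
    obtain ⟨G, hG⟩ := exists_desc Φd Φ₁ (j.comp (lmap l).toAddMonoidHom) (fun m m' => hjj _ _)
      (fun r m => by
        change Φ₁ r * j (lmap l m) = j (lmap l (π r • m))
        rw [map_smul, smul_eq_mul, ← hΦ₁, hj])
      (fun x => by
        change Φ₀ x - j (D x) = j (lmap l (Φd x))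
        have hl' : ψ x = lmap l (Φd x) + D x := hl x
        rw [hψ, ← map_sub, hl', add_sub_cancel_right])
    have hGi : ∀ m, G (X.incl m) = j (lmap l m) := fun m => by
      refine (hG (ExalPres.pair 0 m)).trans ?_
      rw [ExalPres.c1_pair, ExalPres.c2_pair, map_zero, zero_add]
      rfl
    refine ⟨l, map_cl_of_hom (isDef_ext (Λ := Λ) X) hR G.toRingHom (fun z => ?_) fun r => ?_⟩
    · change G (algebraMap k X.E (TrivSqZeroExt.fst (R := k) z) + X.incl _) = _
      erw [map_add, AlgHom.commutes, hGi]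
      have hz : (ArtFunLib.tN (Λ := Λ) l) z =
          inlD (TrivSqZeroExt.fst (R := k) z) + inlD (l (ArtFunLib.sndN z)) * epsD := by
        refine TrivSqZeroExt.ext ?_ ?_
        · change TrivSqZeroExt.fst (R := k) z = TrivSqZeroExt.fst (R := k) z + l (ArtFunLib.sndN z) * 0
          rw [mul_zero, add_zero]
        · refine Eq.trans ?_ (zero_add _).symm
          exact (snd_mul_epsD (inlD (Λ := Λ) (l (ArtFunLib.sndN z)))).symm
      rw [hz]
      erw [map_add]
      refine congrArg₂ (· + ·) rfl ?_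
      refine Eq.trans ?_ (hje _).symm
      rw [lmap_tmul, Algebra.smul_def, mul_one]
    · obtain ⟨w, rfl⟩ := Ideal.Quotient.mk_surjective r
      refine (congrArg q (hG w)).trans ?_
      rw [map_add, hΦ₁]
      change _ + q (j _) = _
      rw [hqj, add_zero]
      rfl

section T1

variable {ι σ : Type u} (P : Algebra.Presentation k B₀ ι σ)

/-- The map of a presentation. -/
noncomputable abbrev presMap : P.toExtension.Ring →ₐ[k] B₀ :=
  IsScalarTower.toAlgHom k P.toExtension.Ring B₀

/-- Evaluation of a map on the kernel at the relations. -/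
noncomputable def cocOf (φ : ExalPres.Phi (presMap P) B₀) : CotT.L1 P →ₗ[B₀] B₀ :=
  (CotT.L1basis P).constr ℕ fun s => φ ⟨CotT.rel P s, CotT.algebraMap_rel P s⟩

theorem cocOf_tmul (φ : ExalPres.Phi (presMap P) B₀) (g : CotT.relMod P) :
    cocOf P φ ((1 : B₀) ⊗ₜ g) = φ ⟨CotT.jmap P g, CotT.algebraMap_jmap P g⟩ := by
  induction g using Finsupp.induction_linear with
  | zero =>
    rw [tmul_zero, map_zero]
    exact (φ.congr (y := 0) (by simp)).trans φ.map_zero |>.symm
  | add a b ha hb =>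
    rw [tmul_add, map_add, ha, hb, ← φ.map_add']
    exact φ.congr (map_add (CotT.jmap P) a b).symm
  | single s r =>
    have h1 : (1 : B₀) ⊗ₜ[P.toExtension.Ring] Finsupp.single s r =
        algebraMap P.toExtension.Ring B₀ r • CotT.L1basis P s := by
      rw [CotT.L1basis_apply, TensorProduct.smul_tmul', smul_eq_mul, mul_one, Algebra.algebraMap_eq_smul_one,
        TensorProduct.smul_tmul, Finsupp.smul_single, smul_eq_mul, mul_one]
    rw [h1, map_smul, cocOf, Module.Basis.constr_basis]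
    refine (φ.map_smul' r _).symm.trans (φ.congr ?_)
    exact (CotT.jmap_single P s r).symm

theorem cocOf_mem (φ : ExalPres.Phi (presMap P) B₀) : cocOf P φ ∈ CotT.cocycles1 P B₀ := by
  rw [LinearMap.mem_ker, CotT.d2Star_apply]
  refine LinearMap.ext fun z => ?_
  obtain ⟨w, rfl⟩ := Submodule.Quotient.mk_surjective _ z
  induction w using TensorProduct.induction_on with
  | zero => exact (map_zero _)
  | add x y hx hy => rw [Submodule.Quotient.mk_add, map_add, hx, hy, map_add]
  | tmul b q => ?_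
  change cocOf P φ (CotT.d2 _ (Submodule.Quotient.mk (b ⊗ₜ q))) = 0
  rw [CotT.d2_mk_tmul, ← mul_one b, ← smul_eq_mul, ← TensorProduct.smul_tmul', map_smul, cocOf_tmul,
    φ.congr (y := 0) (show CotT.jmap P (q : CotT.relMod P) = ((0 : RingHom.ker (presMap P)) : P.toExtension.Ring)
      from q.2), φ.map_zero, smul_zero]

theorem exists_phi_of_cocycle (c : CotT.cocycles1 P B₀) :
    ∃ φ : ExalPres.Phi (presMap P) B₀, cocOf P φ = c.1 := by
  have hzero : ∀ q : CotT.relMod P, CotT.jmap P q = 0 → c.1 ((1 : B₀) ⊗ₜ q) = 0 := fun q hq => by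
    have h1 := LinearMap.congr_fun (LinearMap.mem_ker.1 c.2)
      (Submodule.Quotient.mk ((1 : B₀) ⊗ₜ (⟨q, hq⟩ : CotT.relKer P)))
    rwa [CotT.d2Star_apply, LinearMap.comp_apply, CotT.d2_mk_tmul] at h1
  have hE : ∀ x : RingHom.ker (presMap P), ∃ g, CotT.jmap P g = x.1 := fun x => by
    have : x.1 ∈ LinearMap.range (CotT.jmap P) := by
      rw [CotT.range_jmap]
      exact x.2
    exact this
  choose E hE using hE
  have hwd : ∀ g g', CotT.jmap P g = CotT.jmap P g' → c.1 ((1 : B₀) ⊗ₜ g) = c.1 ((1 : B₀) ⊗ₜ g') := fun g g' h => by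
    rw [← sub_eq_zero, ← map_sub, ← tmul_sub]
    exact hzero _ (by rw [map_sub, h, sub_self])
  refine ⟨⟨fun x => c.1 ((1 : B₀) ⊗ₜ E x), fun x y => ?_, fun r x => ?_⟩, (CotT.L1basis P).ext fun s => ?_⟩
  · rw [← map_add, ← tmul_add]
    exact hwd _ _ (by rw [map_add, hE, hE, hE]; rfl)
  · have h1 : algebraMap P.toExtension.Ring B₀ r • c.1 ((1 : B₀) ⊗ₜ E x) = c.1 ((1 : B₀) ⊗ₜ (r • E x)) := by
      rw [← map_smul, algebraMap_smul, tmul_smul]
    refine (hwd _ (r • E x) ?_).trans h1.symm
    rw [map_smul, hE, hE]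
    rfl
  · rw [cocOf, Module.Basis.constr_basis, CotT.L1basis_apply]
    refine hwd _ _ ?_
    rw [hE, CotT.jmap_single, one_mul]

theorem exists_h_of_isDer {D : P.toExtension.Ring → B₀} (hD : ExalPres.IsDer (presMap P) B₀ D) :
    ∃ h : CotT.L0 P →ₗ[B₀] B₀, ∀ r, h ((1 : B₀) ⊗ₜ KaehlerDifferential.D k P.toExtension.Ring r) = D r := by
  refine ⟨P.cotangentSpaceBasis.constr ℕ fun i : ι => D (MvPolynomial.X i), fun r => ?_⟩
  generalize hh : P.cotangentSpaceBasis.constr ℕ (fun i : ι => D (MvPolynomial.X i)) = h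
  refine MvPolynomial.induction_on (motive := fun r : P.toExtension.Ring =>
    h ((1 : B₀) ⊗ₜ KaehlerDifferential.D k P.toExtension.Ring r) = D r) r (fun a => ?_) (fun p q hp hq => ?_)
      (fun p i hp => ?_)
  · rw [show (MvPolynomial.C a : P.toExtension.Ring) = algebraMap k P.toExtension.Ring a from rfl]
    erw [Derivation.map_algebraMap, tmul_zero, map_zero]
    exact (hD.const a).symm
  · erw [map_add, tmul_add, map_add, hp, hq]
    exact (hD.add p q).symm
  · erw [Derivation.leibniz, tmul_add, map_add, tmul_smul, tmul_smul, ← algebraMap_smul (R := P.toExtension.Ring) B₀ p,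
      ← algebraMap_smul (R := P.toExtension.Ring) B₀ (MvPolynomial.X i : P.toExtension.Ring), map_smul, map_smul, hp,
      ← Algebra.Generators.cotangentSpaceBasis_apply, ← hh, Module.Basis.constr_basis]
    exact (hD.mul p _).symm

theorem isDer_of_h (h : CotT.L0 P →ₗ[B₀] B₀) :
    ExalPres.IsDer (presMap P) B₀ (fun r => h ((1 : B₀) ⊗ₜ KaehlerDifferential.D k P.toExtension.Ring r)) where
  add a b := by simp [tmul_add]
  mul a b := by
    change h ((1 : B₀) ⊗ₜ KaehlerDifferential.D k P.toExtension.Ring (a * b)) = _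
    rw [Derivation.leibniz, tmul_add, map_add, tmul_smul, tmul_smul, ← algebraMap_smul B₀ a,
      ← algebraMap_smul B₀ b, map_smul, map_smul]
    rfl
  const a := by simp

/-- The tangent space has the dimension of `T¹`. -/
theorem exists_tangent_T1 [Module.Finite k (CotT.T1 P B₀)] :
    ∃ z : (defFunctor (Λ := Λ) (Spec (CommRingCat.of B₀)) (str k B₀)).obj
        (ArtFunLib.dualN Λ k (Module.finrank k (CotT.T1 P B₀))),
      Function.Bijective fun l : (Fin _ → k) →ₗ[k] k => (defFunctor _ _).map (ArtFunLib.tN l) z := by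
  let b := Module.finBasis k (CotT.T1 P B₀)
  choose c hc using fun j => Submodule.Quotient.mk_surjective _ (b j)
  choose φ hφ using fun j => exists_phi_of_cocycle P (c j)
  let Φd : ExalPres.Phi (presMap P) (B₀ ⊗[k] (Fin (Module.finrank k (CotT.T1 P B₀)) → k)) :=
    { toFun := fun x => ∑ j, φ j x ⊗ₜ Pi.single j 1
      map_add' := fun x y => by
        rw [← Finset.sum_add_distrib]
        exact Finset.sum_congr rfl fun j _ => by rw [(φ j).map_add', add_tmul]
      map_smul' := fun r x => by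
        rw [Finset.smul_sum]
        exact Finset.sum_congr rfl fun j _ => by rw [(φ j).map_smul', TensorProduct.smul_tmul'] }
  have hlm : ∀ l x, lmap l (Φd x) = ∑ j, l (Pi.single j 1) • φ j x := fun l x => by
    change lmap l (∑ j, φ j x ⊗ₜ Pi.single j 1) = _
    rw [map_sum]
    exact Finset.sum_congr rfl fun j _ => lmap_tmul _ _ _
  have key : ∀ (ψ : ExalPres.Phi (presMap P) B₀) (a : Fin _ → k),
      ((∃ D, ExalPres.IsDer (presMap P) B₀ D ∧ ∀ x, ψ x = (∑ j, a j • φ j x) + D x) ↔
        (Submodule.Quotient.mk ⟨cocOf P ψ, cocOf_mem P ψ⟩ : CotT.T1 P B₀) = ∑ j, a j • b j) := by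
    intro ψ a
    have hs : ∑ j, a j • b j = (Submodule.Quotient.mk (∑ j, a j • c j) : CotT.T1 P B₀) := by
      rw [← Submodule.mkQ_apply, map_sum]
      refine Finset.sum_congr rfl fun j _ => ?_
      rw [← hc j]
      rfl
    have hcs : ∀ g, (∑ j, a j • c j : CotT.cocycles1 P B₀).1 ((1 : B₀) ⊗ₜ g) =
        ∑ j, a j • φ j ⟨CotT.jmap P g, CotT.algebraMap_jmap P g⟩ := fun g => by
      rw [Submodule.coe_sum, LinearMap.sum_apply]
      refine Finset.sum_congr rfl fun j _ => ?_
      rw [← cocOf_tmul, hφ]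
      rfl
    rw [hs]
    refine Iff.trans ?_ (Submodule.Quotient.eq _).symm
    constructor
    · rintro ⟨D, hD, hx⟩
      obtain ⟨h, hh⟩ := exists_h_of_isDer P hD
      refine ⟨h, (CotT.L1basis P).ext fun s => ?_⟩
      change h (CotT.d1 P (CotT.L1basis P s)) = cocOf P ψ _ - (∑ j, a j • c j : CotT.cocycles1 P B₀).1 _
      rw [CotT.L1basis_apply, cocOf_tmul, hcs, CotT.d1_tmul, one_smul, hh, hx]
      abel
    · rintro ⟨h, hh⟩
      refine ⟨_, isDer_of_h P h, fun x => ?_⟩
      obtain ⟨g, hg⟩ : x.1 ∈ LinearMap.range (CotT.jmap P) := by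
        rw [CotT.range_jmap]
        exact x.2
      have h1 : h (CotT.d1 P ((1 : B₀) ⊗ₜ g)) =
          cocOf P ψ ((1 : B₀) ⊗ₜ g) - (∑ j, a j • c j : CotT.cocycles1 P B₀).1 ((1 : B₀) ⊗ₜ g) :=
        LinearMap.congr_fun hh _
      rw [CotT.d1_tmul, one_smul, cocOf_tmul, hcs] at h1
      have hx : x = ⟨CotT.jmap P g, CotT.algebraMap_jmap P g⟩ := Subtype.ext hg.symm
      rw [hx]
      change _ = _ + h ((1 : B₀) ⊗ₜ KaehlerDifferential.D k P.toExtension.Ring (CotT.jmap P g))
      rw [h1]
      abel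
  refine tangent_param (presMap P) P.toExtension.algebraMap_surjective
    (fun T _ _ q hq => ?_) Φd (fun ψ => ?_) fun l D hD hl => ?_
  · choose g hg using fun i => hq (P.val i)
    refine ⟨MvPolynomial.aeval g, MvPolynomial.algHom_ext fun i => ?_⟩
    rw [AlgHom.comp_apply, MvPolynomial.aeval_X, hg]
    exact ((CotT.algebraMap_toExtension P _).trans (MvPolynomial.aeval_X _ _)).symm
  · obtain ⟨D, hD, hx⟩ := (key ψ fun j => b.repr (Submodule.Quotient.mk ⟨cocOf P ψ, cocOf_mem P ψ⟩) j).2
      (b.sum_repr _).symm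
    refine ⟨(Pi.basisFun k _).constr k fun j => b.repr (Submodule.Quotient.mk ⟨cocOf P ψ, cocOf_mem P ψ⟩) j,
      D, hD, fun x => ?_⟩
    rw [hx, hlm]
    congr 1
    refine Finset.sum_congr rfl fun j _ => ?_
    rw [← Pi.basisFun_apply (R := k), Module.Basis.constr_basis]
  · let ψ₀ : ExalPres.Phi (presMap P) B₀ :=
      { toFun := fun _ => 0
        map_add' := fun _ _ => (add_zero 0).symm
        map_smul' := fun r _ => (smul_zero _).symm }
    have hD' : ExalPres.IsDer (presMap P) B₀ (fun r => - D r) :=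
      ⟨fun a b => by rw [hD.add, neg_add], fun a b => by rw [hD.mul, neg_add, smul_neg, smul_neg],
        fun a => by rw [hD.const, neg_zero]⟩
    have h0 := (key ψ₀ fun j => l (Pi.single j 1)).1 ⟨_, hD', fun x => by
      change (0 : B₀) = _
      rw [← hlm, hl, add_neg_cancel]⟩
    have hz : (⟨cocOf P ψ₀, cocOf_mem P ψ₀⟩ : CotT.cocycles1 P B₀) = 0 :=
      Subtype.ext ((CotT.L1basis P).ext fun s => by
        exact Module.Basis.constr_basis _ _ _ _)
    rw [hz, Submodule.Quotient.mk_zero] at h0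
    have h1 := Fintype.linearIndependent_iff.1 b.linearIndependent _ h0.symm
    refine (Pi.basisFun k _).ext fun j => ?_
    rw [Pi.basisFun_apply, h1 j]
    rfl

end T1

end Groth.Agent.DefAffHull
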