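import Groth.Prelude.Def_ArtFun4
import Groth.Agent.ArtFunLib.Functor

/-!
# Invariance of the deformation functor under isomorphisms of the scheme
-/

set_option autoImplicit false
universe u

open CategoryTheory CategoryTheory.Limits AlgebraicGeometry ArtFun

namespace Groth.Agent.DefAffHull

variable {Λ k : Type u} [CommRing Λ] [Field k] [Algebra Λ k]
variable {X X' : Scheme.{u}} {x : X ⟶ Art.specPt k} {x' : X' ⟶ Art.specPt k}

/-- Transport a deformation along an isomorphism of closed fibres. -/
noncomputable def moveDef (e : X' ≅ X) (he : e.hom ≫ x = x') {A : Art Λ k} (ξ : DefSch X x A) :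
    DefSch X' x' A where
  total := ξ.total
  f := ξ.f
  flat := ξ.flat
  i := e.hom ≫ ξ.i
  isPullback := ξ.isPullback.of_iso e.symm (Iso.refl _) (Iso.refl _) (Iso.refl _) (by simp)
    (by simp [← he]) (by simp) (by simp)

/-- Transport of isomorphisms. -/
noncomputable def moveIso (e : X' ≅ X) (he : e.hom ≫ x = x') {A : Art Λ k} {ξ η : DefSch X x A}
    (φ : ξ.Iso η) : (moveDef e he ξ).Iso (moveDef e he η) :=
  ⟨φ.iso, φ.hom_f, (Category.assoc _ _ _).trans (congrArg (e.hom ≫ ·) φ.i_hom)⟩

/-- Transport commutes with base change. -/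
noncomputable def moveBaseChange (e : X' ≅ X) (he : e.hom ≫ x = x') {A B : Art Λ k} (ξ : DefSch X x A)
    (g : A ⟶ B) : (moveDef e he (ξ.baseChange g)).Iso ((moveDef e he ξ).baseChange g) where
  iso := Iso.refl _
  hom_f := Category.id_comp _
  i_hom := by
    refine (Category.comp_id _).trans ?_
    apply pullback.hom_ext
    · exact ((Category.assoc _ _ _).trans (congrArg (e.hom ≫ ·) (DefSch.baseChange_i_fst ξ g))).trans
        (DefSch.baseChange_i_fst (moveDef e he ξ) g).symm
    · refine ((Category.assoc _ _ _).trans (congrArg (e.hom ≫ ·) (DefSch.baseChange_i_f ξ g))).trans ?_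
      exact ((Category.assoc _ _ _).symm.trans (congrArg (· ≫ _) he)).trans
        (DefSch.baseChange_i_f (moveDef e he ξ) g).symm

/-- Transport of classes. -/
noncomputable def moveCl (e : X' ≅ X) (he : e.hom ≫ x = x') (A : Art Λ k) :
    (defFunctor X x).obj A → (defFunctor X' x').obj A :=
  Quotient.map' (moveDef e he) fun _ _ ⟨φ⟩ => ⟨moveIso e he φ⟩

theorem moveCl_natural (e : X' ≅ X) (he : e.hom ≫ x = x') {A B : Art Λ k} (g : A ⟶ B)
    (c : (defFunctor X x).obj A) :
    moveCl e he B ((defFunctor X x).map g c) = (defFunctor X' x').map g (moveCl e he A c) := by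
  induction c using Quotient.inductionOn with | h ξ => ?_
  exact Quotient.sound ⟨moveBaseChange e he ξ g⟩

theorem moveCl_inverse (e : X' ≅ X) (he : e.hom ≫ x = x') (he' : e.inv ≫ x' = x) (A : Art Λ k)
    (c : (defFunctor X x).obj A) : moveCl e.symm he' A (moveCl e he A c) = c := by
  induction c using Quotient.inductionOn with | h ξ => ?_
  exact Quotient.sound ⟨⟨Iso.refl _, Category.id_comp _,
    (Category.comp_id _).trans (by simp [moveDef])⟩⟩

theorem moveCl_bijective (e : X' ≅ X) (he : e.hom ≫ x = x') (A : Art Λ k) :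
    Function.Bijective (moveCl e he A) := by
  have he' : e.inv ≫ x' = x := by rw [← he, e.inv_hom_id_assoc]
  refine Function.bijective_iff_has_inverse.mpr ⟨moveCl e.symm he' A, moveCl_inverse e he he' A, fun c => ?_⟩
  exact moveCl_inverse e.symm he' he A c

/-- Hulls transfer. -/
theorem hasHull_of_iso (e : X' ≅ X) (he : e.hom ≫ x = x')
    (h : HasHull (defFunctor (Λ := Λ) X' x')) : HasHull (defFunctor (Λ := Λ) X x) := by
  obtain ⟨⟨R, ξ, hv, hb⟩⟩ := h
  let η : ∀ A : Art Λ k, (defFunctor X' x').obj A → (defFunctor X x).obj A := fun A =>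
    (Equiv.ofBijective _ (moveCl_bijective e he A)).symm
  have hη : ∀ A c, moveCl e he A (η A c) = c := fun A c =>
    (Equiv.ofBijective _ (moveCl_bijective e he A)).apply_symm_apply c
  have hnat : ∀ {A B : Art Λ k} (g : A ⟶ B) c,
      η B ((defFunctor X' x').map g c) = (defFunctor X x).map g (η A c) := fun {A B} g c => by
    apply (moveCl_bijective e he B).1
    rw [hη, moveCl_natural, hη]
  let ξ' : Family R.carrier R.res (defFunctor (Λ := Λ) X x) :=
    { app := fun A φ => η A (ξ.app A φ)
      natural := fun g φ => (congrArg (η _) (ξ.natural g φ)).trans (hnat g _) }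
  refine ⟨⟨R, ξ', fun B A μ hμ φ y hy => ?_, ?_⟩⟩
  · obtain ⟨ψ, h1, h2⟩ := hv μ hμ φ (moveCl e he B y) (by
      rw [← moveCl_natural, hy]
      exact hη A _)
    exact ⟨ψ, h1, (moveCl_bijective e he B).1 ((hη B _).trans h2)⟩
  · exact (Equiv.ofBijective _ (moveCl_bijective e he _)).symm.bijective.comp hb

end Groth.Agent.DefAffHull
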